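import Cfsg.Agent.Lib.Solv.KW.Main
import Mathlib.GroupTheory.Frattini

/-!
The Kegel–Wielandt theorem and its refinement on normal subgroups containing a factor.
-/

set_option autoImplicit false

namespace Cfsg.Lib.Solv.KW

open Subgroup Cfsg
open scoped Pointwise commutatorElement

universe u

variable {G : Type u} [Group G]

/-- `X` permutes with every conjugate of `B` in a `p`-group. -/
def PPerm (p : ℕ) (B X : Subgroup G) : Prop :=
  ∀ x : G, ∃ S : Subgroup G, IsPGroup p ↥S ∧
    (S : Set G) = (X : Set G) * ((B.map (MulAut.conj x).toMonoidHom : Subgroup G) : Set G)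

theorem PPerm.swap {p : ℕ} {B X : Subgroup G} (h : PPerm p B X) (x : G) {a b : G}
    (ha : a ∈ X) (hb : b ∈ B.map (MulAut.conj x).toMonoidHom) :
    ∃ a' ∈ X, ∃ b' ∈ B.map (MulAut.conj x).toMonoidHom, b * a = a' * b' := by
  obtain ⟨S, -, hS⟩ := h x
  have hbS : b ∈ (S : Set G) := by rw [hS]; exact ⟨1, one_mem _, b, hb, one_mul _⟩
  have haS : a ∈ (S : Set G) := by rw [hS]; exact ⟨a, ha, 1, one_mem _, mul_one _⟩
  have : b * a ∈ (S : Set G) := S.mul_mem hbS haS
  rw [hS] at this
  obtain ⟨a', ha', b', hb', e⟩ := this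
  exact ⟨a', ha', b', hb', e.symm⟩

variable [Finite G]

theorem commutator_le_pCore {p : ℕ} [Fact p.Prime] {A B : Subgroup G} (h : PPerm p B A) :
    ⁅A, B⁆ ≤ pCore p G := by
  classical
  obtain ⟨X, hAX, hX⟩ := Finite.exists_le_maximal (p := fun X : Subgroup G => PPerm p B X) h
  have hn : ∀ x : G, B.map (MulAut.conj x).toMonoidHom ≤ normalizer (X : Set G) := by
    intro x y hy
    obtain ⟨S, hSp, hS⟩ := hX.prop x
    have hXS : X ≤ S := fun a ha => by
      show a ∈ (S : Set G)
      rw [hS]; exact ⟨a, ha, 1, one_mem _, mul_one a⟩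
    have hBS : B.map (MulAut.conj x).toMonoidHom ≤ S := fun b hb => by
      show b ∈ (S : Set G)
      rw [hS]; exact ⟨1, one_mem _, b, hb, one_mul b⟩
    set X₁ := X.map (MulAut.conj y).toMonoidHom with hX₁
    set J := X ⊔ X₁ with hJ
    have hJp : IsPGroup p ↥J := hSp.to_le (sup_le hXS (by
      rintro _ ⟨a, ha, rfl⟩
      simpa using S.mul_mem (S.mul_mem (hBS hy) (hXS ha)) (S.inv_mem (hBS hy))))
    have hJperm : PPerm p B J := by
      intro z
      set W := B.map (MulAut.conj z).toMonoidHom with hW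
      have hswap : ∀ a ∈ J, ∀ b ∈ W, ∃ a' ∈ J, ∃ b' ∈ W, b * a = a' * b' := by
        intro a ha
        rw [hJ, sup_eq_closure] at ha
        induction ha using closure_induction with
        | mem a ha =>
          intro b hb
          rcases ha with ha | ha
          · obtain ⟨a', ha', b', hb', e⟩ := hX.prop.swap z ha hb
            exact ⟨a', le_sup_left (b := X₁) ha', b', hb', e⟩
          · obtain ⟨c, hc, rfl⟩ := ha
            have hb' : y⁻¹ * b * y ∈ B.map (MulAut.conj (y⁻¹ * z)).toMonoidHom := by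
              refine mem_map_conj.2 ?_
              have := mem_map_conj.1 hb
              rwa [show (y⁻¹ * z)⁻¹ * (y⁻¹ * b * y) * (y⁻¹ * z) = z⁻¹ * b * z by group]
            obtain ⟨a', ha', b', hb'', e⟩ := hX.prop.swap (y⁻¹ * z) hc hb'
            refine ⟨y * a' * y⁻¹, le_sup_right (a := X) (mem_map_conj.2 (by simpa [mul_assoc])),
              y * b' * y⁻¹, mem_map_conj.2 ?_, ?_⟩
            · have := mem_map_conj.1 hb''
              rwa [show z⁻¹ * (y * b' * y⁻¹) * z = (y⁻¹ * z)⁻¹ * b' * (y⁻¹ * z) by group]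
            · simp only [MulEquiv.coe_toMonoidHom, MulAut.conj_apply]
              calc b * (y * c * y⁻¹) = y * (y⁻¹ * b * y * c) * y⁻¹ := by group
                _ = y * (a' * b') * y⁻¹ := by rw [e]
                _ = _ := by group
        | one => intro b hb; exact ⟨1, one_mem _, b, hb, by simp⟩
        | mul a₁ a₂ _ _ h₁ h₂ =>
          intro b hb
          obtain ⟨a', ha', b', hb', e⟩ := h₁ b hb
          obtain ⟨a'', ha'', b'', hb'', e'⟩ := h₂ b' hb'
          exact ⟨a' * a'', mul_mem ha' ha'', b'', hb'',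
            by rw [← mul_assoc, e, mul_assoc, e', mul_assoc]⟩
        | inv a ha' h₁ =>
          -- inverses are positive powers
          intro b hb
          have hk : ∀ k : ℕ, ∀ b ∈ W, ∃ a' ∈ J, ∃ b' ∈ W, b * a ^ k = a' * b' := by
            intro k
            induction k with
            | zero => intro b hb; exact ⟨1, one_mem _, b, hb, by simp⟩
            | succ k ihk =>
              intro b hb
              obtain ⟨a', ha', b', hb', e⟩ := ihk b hb
              obtain ⟨a'', ha'', b'', hb'', e'⟩ := h₁ b' hb'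
              exact ⟨a' * a'', mul_mem ha' ha'', b'', hb'',
                by rw [pow_succ, ← mul_assoc, e, mul_assoc, e', mul_assoc]⟩
          have e : a⁻¹ = a ^ (orderOf a - 1) := inv_eq_of_mul_eq_one_right (by
            rw [← pow_succ', Nat.sub_add_cancel (orderOf_pos a), pow_orderOf_eq_one])
          rw [e]
          exact hk _ b hb
      let M : Subgroup G :=
        { carrier := (J : Set G) * (W : Set G)
          one_mem' := ⟨1, one_mem _, 1, one_mem _, mul_one _⟩
          mul_mem' := by
            rintro _ _ ⟨a, ha, b, hb, rfl⟩ ⟨a', ha', b', hb', rfl⟩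
            obtain ⟨a'', ha'', b'', hb'', e⟩ := hswap a' ha' b hb
            refine ⟨a * a'', mul_mem ha ha'', b'' * b', mul_mem hb'' hb', ?_⟩
            simp only
            calc a * a'' * (b'' * b') = a * (a'' * b'') * b' := by group
              _ = a * (b * a') * b' := by rw [e]
              _ = a * b * (a' * b') := by group
          inv_mem' := by
            rintro _ ⟨a, ha, b, hb, rfl⟩
            obtain ⟨a', ha', b', hb', e⟩ := hswap a⁻¹ (inv_mem ha) b⁻¹ (inv_mem hb)
            exact ⟨a', ha', b', hb', by simp only [mul_inv_rev]; exact e.symm⟩ }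
      refine ⟨M, ?_, rfl⟩
      have hWp : IsPGroup p ↥W := by
        obtain ⟨S, hS', hSe⟩ := hX.prop z
        exact hS'.to_le fun b hb => by
          show b ∈ (S : Set G)
          rw [hSe]; exact ⟨1, one_mem _, b, hb, one_mul b⟩
      obtain ⟨i, hi⟩ := IsPGroup.iff_card.1 hJp
      obtain ⟨j, hj⟩ := IsPGroup.iff_card.1 hWp
      have hc : Nat.card M = Nat.card W * W.relIndex J := by
        rw [← Cfsg.Lib.Solv.card_mul_set J W]
        rfl
      have hd : W.relIndex J ∣ p ^ i := hi ▸ (relIndex_dvd_card W J)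
      obtain ⟨l, -, hl⟩ := (Nat.dvd_prime_pow (Fact.out : p.Prime)).1 hd
      exact IsPGroup.of_card (n := j + l) (by rw [hc, hj, hl, pow_add])
    have hle : X₁ ≤ X := le_sup_right.trans (hX.le_of_ge hJperm le_sup_left)
    exact Cfsg.Lib.Core.mem_normalizer_iff_map_conj.2 (eq_of_le_of_card_ge hle
      (card_map_of_injective (MulAut.conj y).injective).ge)
  set K := normalClosure (B : Set G)
  have hK : K ≤ normalizer (X : Set G) := (closure_le _).2 fun c hc => by
    obtain ⟨b, hb, hconj⟩ := Group.mem_conjugatesOfSet_iff.1 hc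
    obtain ⟨x, rfl⟩ := isConj_iff.1 hconj
    exact hn x (mem_map.2 ⟨b, hb, by simp⟩)
  have hX' : IsPGroup p ↥X := by
    obtain ⟨S, hS, hSe⟩ := hX.prop 1
    exact hS.to_le fun a ha => by
      show a ∈ (S : Set G)
      rw [hSe]; exact ⟨a, ha, 1, one_mem _, mul_one a⟩
  have hsn : ((X ⊓ K).subgroupOf K).Normal :=
    (normal_subgroupOf_iff_le_normalizer inf_le_right).2
      ((le_inf hK le_normalizer).trans inf_normalizer_le_normalizer_inf)
  have hle : X ⊓ K ≤ pCore p G := Cfsg.Lib.Core.le_pCore_of_isSubnormal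
    (Cfsg.Lib.Core.isSubnormal_of_normal_subgroupOf inf_le_right
      (Subgroup.Normal.isSubnormal (normalClosure_normal)) hsn) (hX'.to_le inf_le_left)
  refine le_trans ?_ hle
  refine commutator_le.2 fun a ha b hb => ⟨?_, ?_⟩
  · have hb' := (mem_normalizer_iff.1 (hK (subset_normalClosure hb))) a⁻¹
    rw [commutatorElement_def, show a * b * a⁻¹ * b⁻¹ = a * (b * a⁻¹ * b⁻¹) by group]
    exact mul_mem (hAX ha) (hb'.1 (inv_mem (hAX ha)))
  · rw [commutatorElement_def]
    exact K.mul_mem ((normalClosure_normal).conj_mem b (subset_normalClosure hb) a)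
      (K.inv_mem (subset_normalClosure hb))

theorem part_eq_of_sylow {A : Subgroup G} (hA : Group.IsNilpotent A) {p : ℕ} [Fact p.Prime]
    (P : Sylow p A) : (P : Subgroup A).map A.subtype = part A p :=
  eq_of_le_of_card_ge (le_part hA p (map_subtype_le _) (P.isPGroup'.map _)) (by
    rw [part, Cfsg.Lib.Core.card_map_subtype, Cfsg.Lib.Core.card_map_subtype, P.card_eq_multiplicity,
      (Classical.arbitrary (Sylow p A)).card_eq_multiplicity])

/-- Conjugates of Sylow subgroups of nilpotent factors permute. -/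
theorem pperm_part {A B : Subgroup G} (hA : Group.IsNilpotent A) (hB : Group.IsNilpotent B)
    (h : IsProd A B) (p : ℕ) [Fact p.Prime] : PPerm p (part B p) (part A p) := by
  intro x
  have hp' := (Cfsg.Agent.S0559.result A B A (MulAut.conj x • B) h
    ⟨1, by simp⟩ ⟨x, rfl⟩).1
  rw [Cfsg.Lib.Core.conj_smul_eq_map] at hp'
  set B' := B.map (MulAut.conj x).toMonoidHom with hB'
  obtain ⟨P, Q, R, hR⟩ := Cfsg.Agent.S0560.result A B' hp' p
  have hB'n : Group.IsNilpotent B' := Cfsg.Lib.Core.isNilpotent_map hB _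
  rw [part_eq_of_sylow hA P, part_eq_of_sylow hB'n Q] at hR
  refine ⟨R, R.isPGroup', ?_⟩
  have hge : (part B p).map (MulAut.conj x).toMonoidHom ≤ part B' p :=
    le_part hB'n p (map_mono (part_le B p)) ((part_isPGroup B p).map _)
  have hle : Nat.card ↥(part B' p) ≤ Nat.card ↥((part B p).map (MulAut.conj x).toMonoidHom) := by
    rw [card_map_of_injective (MulAut.conj x).injective, part, part, Cfsg.Lib.Core.card_map_subtype,
      Cfsg.Lib.Core.card_map_subtype, Sylow.card_eq_multiplicity, Sylow.card_eq_multiplicity,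
      hB', card_map_of_injective (MulAut.conj x).injective]
  rw [hR, eq_of_le_of_card_ge hge hle]

theorem solvable_of_quotient {N : Subgroup G} [N.Normal] (hN : Group.IsSolvable N)
    (hQ : Group.IsSolvable (G ⧸ N)) : Group.IsSolvable G := by
  haveI := hN
  haveI := hQ
  exact Group.isSolvable_of_ker_le_range N.subtype (QuotientGroup.mk' N) (by simp)

omit [Finite G] in
theorem prod_quotient {A B : Subgroup G} (h : IsProd A B) (N : Subgroup G) [N.Normal] :
    IsProd (A.map (QuotientGroup.mk' N)) (B.map (QuotientGroup.mk' N)) := fun g => by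
  obtain ⟨g, rfl⟩ := QuotientGroup.mk'_surjective N g
  obtain ⟨a, ha, b, hb, rfl⟩ := h g
  exact ⟨_, mem_map_of_mem _ ha, _, mem_map_of_mem _ hb, map_mul _ _ _⟩

/-- The Kegel–Wielandt theorem. -/
theorem solvable_of_nilpotent_product : ∀ (n : ℕ) (G : Type u) [Group G] [Finite G]
    (A B : Subgroup G), Nat.card G ≤ n → Group.IsNilpotent A → Group.IsNilpotent B → IsProd A B →
      Group.IsSolvable G := by
  intro n
  induction n with
  | zero => intro G _ _ A B hn; exact absurd (Nat.card_pos (α := G)) (by omega)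
  | succ n ih =>
    intro G _ _ A B hn hA hB hprod
    by_cases hcop : (Nat.card A).Coprime (Nat.card B)
    · exact solvable_of_coprime (Nat.card G) G A B le_rfl hA hB hcop hprod
    have hquot : ∀ (N : Subgroup G) [N.Normal], N ≠ ⊥ → Group.IsSolvable (G ⧸ N) := by
      intro N _ hN
      exact ih (G ⧸ N) _ _ (by have := Cfsg.Lib.Core.card_quotient_lt hN; omega)
        (Cfsg.Lib.Core.isNilpotent_map hA _) (Cfsg.Lib.Core.isNilpotent_map hB _)
        (prod_quotient hprod N)
    obtain ⟨p, hp, hpA, hpB⟩ := Nat.Prime.not_coprime_iff_dvd.1 hcop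
    haveI := Fact.mk hp
    by_cases hO : pCore p G = ⊥
    swap
    · haveI := (Cfsg.Lib.Core.pCore_isPGroup p G).isNilpotent
      exact solvable_of_quotient inferInstance (hquot _ hO)
    set NA := normalClosure (part A p : Set G) with hNA
    set NB := normalClosure (part B p : Set G) with hNB
    have hcomm : ∀ a ∈ NA, ∀ b ∈ NB, a * b = b * a := by
      have key : ∀ x : G, ∀ a ∈ part A p, ∀ b ∈ part B p, Commute a (x * b * x⁻¹) := by
        intro x a ha b hb
        have hper : PPerm p ((part B p).map (MulAut.conj x).toMonoidHom) (part A p) := by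
          intro y
          obtain ⟨S, hS, hSe⟩ := pperm_part hA hB hprod p (y * x)
          refine ⟨S, hS, ?_⟩
          rw [hSe, Cfsg.Lib.Core.map_conj_mul]
        have := commutator_le_pCore hper (commutator_mem_commutator ha
          (mem_map.2 ⟨b, hb, rfl⟩ : (MulAut.conj x).toMonoidHom b ∈ _))
        rw [hO, mem_bot] at this
        simpa using commutatorElement_eq_one_iff_commute.1 this
      have h1 : NB ≤ centralizer (part A p : Set G) := (closure_le _).2 fun c hc => by
        obtain ⟨b, hb, hconj⟩ := Group.mem_conjugatesOfSet_iff.1 hc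
        obtain ⟨x, rfl⟩ := isConj_iff.1 hconj
        exact fun a ha => key x a ha b hb
      have hn : (centralizer (NB : Set G)).Normal := inferInstance
      have h2 : NA ≤ centralizer (NB : Set G) := normalClosure_le_normal fun a ha =>
        fun b hb => (h1 hb a ha).symm
      exact fun a ha b hb => (h2 ha b hb).symm
    by_cases hD : NA ⊓ NB = ⊥
    swap
    · haveI : IsMulCommutative ↥(NA ⊓ NB) :=
        ⟨⟨fun a b => Subtype.ext (hcomm a a.2.1 b b.2.2)⟩⟩
      exact solvable_of_quotient (Cfsg.Lib.Core.isSolvable_of_isMulCommutative _) (hquot _ hD)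
    have hA0 : NA ≠ ⊥ := fun e => part_ne_bot p hpA (eq_bot_iff.2 (e ▸ le_normalClosure))
    have hB0 : NB ≠ ⊥ := fun e => part_ne_bot p hpB (eq_bot_iff.2 (e ▸ le_normalClosure))
    haveI := hquot NA hA0
    haveI := hquot NB hB0
    refine Group.isSolvable_of_isSolvable_injective
      (f := (QuotientGroup.mk' NA).prod (QuotientGroup.mk' NB)) ?_
    rw [injective_iff_map_eq_one]
    intro g hg
    simp only [MonoidHom.prod_apply, QuotientGroup.mk'_apply, Prod.mk_eq_one,
      QuotientGroup.eq_one_iff] at hg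
    have : g ∈ NA ⊓ NB := hg
    rwa [hD, mem_bot] at this

theorem exists_normal_of_nilpotent {A : Subgroup G} (hG : Group.IsNilpotent G) (hA : A ≠ ⊤) :
    ∃ N : Subgroup G, N.Normal ∧ N ≠ ⊤ ∧ A ≤ N := by
  obtain ⟨M, hM, hAM⟩ := (eq_top_or_exists_le_coatom A).resolve_left hA
  haveI := hG
  exact ⟨M, Subgroup.NormalizerCondition.normal_of_coatom M
    Group.normalizerCondition_of_isNilpotent hM, hM.1, hAM⟩

/-- A proper normal subgroup contains one of the factors. -/
theorem exists_normal_factor : ∀ (n : ℕ) (G : Type u) [Group G] [Finite G] (A B : Subgroup G),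
    Nat.card G ≤ n → Group.IsNilpotent A → Group.IsNilpotent B → IsProd A B →
      (A ≠ ⊤ ∨ B ≠ ⊤) → ∃ N : Subgroup G, N.Normal ∧ N ≠ ⊤ ∧ (A ≤ N ∨ B ≤ N) := by
  intro n
  induction n with
  | zero => intro G _ _ A B hn; exact absurd (Nat.card_pos (α := G)) (by omega)
  | succ n ih =>
    intro G _ _ A B hn hA hB hprod hne
    have hnilTop : A = ⊤ ∨ B = ⊤ → Group.IsNilpotent G := by
      rintro (rfl | rfl)
      · haveI := hA; exact Group.nilpotent_of_mulEquiv Subgroup.topEquiv
      · haveI := hB; exact Group.nilpotent_of_mulEquiv Subgroup.topEquiv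
    by_cases hAt : A = ⊤
    · obtain ⟨N, h1, h2, h3⟩ := exists_normal_of_nilpotent (hnilTop (Or.inl hAt))
        (hne.resolve_left (not_not_intro hAt))
      exact ⟨N, h1, h2, Or.inr h3⟩
    by_cases hBt : B = ⊤
    · obtain ⟨N, h1, h2, h3⟩ := exists_normal_of_nilpotent (hnilTop (Or.inr hBt)) hAt
      exact ⟨N, h1, h2, Or.inl h3⟩
    have hquot : ∀ (N : Subgroup G) [N.Normal], N ≠ ⊥ → (A ⊔ N ≠ ⊤ ∨ B ⊔ N ≠ ⊤) →
        ∃ N' : Subgroup G, N'.Normal ∧ N' ≠ ⊤ ∧ (A ≤ N' ∨ B ≤ N') := by
      intro N _ hN hs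
      set π := QuotientGroup.mk' N
      have hπ : Function.Surjective π := QuotientGroup.mk'_surjective N
      have hmap : ∀ C : Subgroup G, C ⊔ N ≠ ⊤ → C.map π ≠ ⊤ := fun C hC e => hC (by
        have := congrArg (Subgroup.comap π) e
        rwa [comap_map_eq, QuotientGroup.ker_mk', comap_top] at this)
      obtain ⟨N', h1, h2, h3⟩ := ih (G ⧸ N) (A.map π) (B.map π)
        (by have := Cfsg.Lib.Core.card_quotient_lt hN; omega)
        (Cfsg.Lib.Core.isNilpotent_map hA π) (Cfsg.Lib.Core.isNilpotent_map hB π)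
        (prod_quotient hprod N) (hs.imp (hmap A) (hmap B))
      refine ⟨N'.comap π, h1.comap π, fun e => h2 ?_, h3.imp ?_ ?_⟩
      · rw [← map_comap_eq_self_of_surjective hπ N', e, map_top_of_surjective π hπ]
      · exact fun h => map_le_iff_le_comap.1 h
      · exact fun h => map_le_iff_le_comap.1 h
    haveI : Nontrivial G := by
      by_contra hnt
      rw [not_nontrivial_iff_subsingleton] at hnt
      exact hAt (Subsingleton.elim _ _)
    obtain ⟨M, hM⟩ := Cfsg.Lib.Core.exists_isMinNormal_univ (G := G)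
    obtain ⟨hMc, hMe⟩ := Cfsg.Lib.Core.minimal_solvable_elementary hM
      (by
        haveI := solvable_of_nilpotent_product (Nat.card G) G A B le_rfl hA hB hprod
        exact Cfsg.Lib.Core.isSolvable_of_le (le_top : M ≤ ⊤) inferInstance)
    obtain ⟨p, hp, -, hMp⟩ := hMe
    haveI := Fact.mk hp
    haveI := hM.1
    by_cases hs : A ⊔ M ≠ ⊤ ∨ B ⊔ M ≠ ⊤
    · exact hquot M hM.2.1 hs
    push_neg at hs
    obtain ⟨j, hj⟩ := IsPGroup.iff_card.1 hMp
    have hidx : ∀ C : Subgroup G, C ⊔ M = ⊤ → ∃ i, C.index = p ^ i := by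
      intro C hC
      have := Cfsg.Lib.Core.card_sup_dvd_mul C M
      rw [hC, Subgroup.card_top, ← C.card_mul_index, hj] at this
      obtain ⟨i, -, hi⟩ := (Nat.dvd_prime_pow hp).1
        ((Nat.mul_dvd_mul_iff_left Nat.card_pos).1 this)
      exact ⟨i, hi⟩
    obtain ⟨i, hi⟩ := hidx A hs.1
    obtain ⟨i', hi'⟩ := hidx B hs.2
    by_cases hq : ∃ q : ℕ, q.Prime ∧ q ≠ p ∧ q ∣ Nat.card A
    · obtain ⟨q, hq, hqp, hqA⟩ := hq
      haveI := Fact.mk hq
      have hcard : ∀ (C : Subgroup G) (k : ℕ), C.index = p ^ k →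
          Nat.card ↥(part C q) = q ^ (Nat.card G).factorization q := by
        intro C k hk
        rw [part, Cfsg.Lib.Core.card_map_subtype, Sylow.card_eq_multiplicity, ← C.card_mul_index,
          Nat.factorization_mul Nat.card_pos.ne' index_ne_zero_of_finite, hk, hp.factorization_pow]
        simp [Ne.symm hqp]
      obtain ⟨R, hRp, hR⟩ := pperm_part hA hB hprod q 1
      have hAR : part A q ≤ R := fun a ha => by
        show a ∈ (R : Set G)
        rw [hR]; exact ⟨a, ha, 1, one_mem _, mul_one a⟩
      have hBR : part B q ≤ R := fun b hb => by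
        show b ∈ (R : Set G)
        rw [hR]; exact ⟨1, one_mem _, b, mem_map.2 ⟨b, hb, by simp⟩, one_mul b⟩
      have hRc : Nat.card R ≤ q ^ (Nat.card G).factorization q := by
        obtain ⟨k, hk⟩ := IsPGroup.iff_card.1 hRp
        rw [hk]
        exact Nat.pow_le_pow_right hq.pos
          ((hq.pow_dvd_iff_le_factorization Nat.card_pos.ne').1 (hk ▸ card_subgroup_dvd_card R))
      have eA := eq_of_le_of_card_ge hAR (by rw [hcard A i hi]; exact hRc)
      have eB := eq_of_le_of_card_ge hBR (by rw [hcard B i' hi']; exact hRc)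
      have hD : (part A q).Normal := normalizer_eq_top_iff.1 (eq_top_iff.2 fun g _ => by
        obtain ⟨a, ha, b, hb, rfl⟩ := hprod g
        refine mul_mem (le_normalizer_part hA q ha) ?_
        rw [eA, ← eB]
        exact le_normalizer_part hB q hb)
      haveI := hD
      refine hquot (part A q) (part_ne_bot q hqA) (Or.inl ?_)
      rw [sup_eq_left.2 (part_le A q)]
      exact hAt
    push_neg at hq
    have hG : IsPGroup p G := by
      have hAp := Nat.eq_prime_pow_of_unique_prime_dvd (p := p) (Nat.card_pos (α := A)).ne'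
        (fun {d} hd hdA => by
          by_contra hne'
          exact hq d hd hne' hdA)
      refine IsPGroup.of_card (n := (Nat.card A).primeFactorsList.length + i) ?_
      rw [← A.card_mul_index, hi, pow_add, ← hAp]
    obtain ⟨N, h1, h2, h3⟩ := exists_normal_of_nilpotent hG.isNilpotent hAt
    exact ⟨N, h1, h2, Or.inl h3⟩

end Cfsg.Lib.Solv.KW
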