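import Cfsg.Agent.Lib.Solv.KW.Odd
import Cfsg.Agent.S0559
import Cfsg.Agent.S0560

/-!
The theorems of Wielandt and Kegel–Wielandt on products of two nilpotent groups.
-/

set_option autoImplicit false

namespace Cfsg.Lib.Solv.KW

open Subgroup Cfsg
open scoped Pointwise

universe u

section Count

variable {G : Type u} [Group G] [Finite G] {A B : Subgroup G}

theorem Ctx.ti (h : Ctx A B) {u v x : G} (hx : x ≠ 1)
    (hu : u⁻¹ * x * u ∈ A) (hv : v⁻¹ * x * v ∈ A) : u⁻¹ * v ∈ normalizer (A : Set G) := by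
  set M := normalizer (A : Set G) with hM
  set g := u⁻¹ * v with hg
  set y := u⁻¹ * x * u with hy
  have hy1 : y ≠ 1 := fun e => hx (by rw [show x = u * y * u⁻¹ by rw [hy]; group, e]; simp)
  have hgy : g⁻¹ * y * g ∈ A := by
    rw [show g⁻¹ * y * g = v⁻¹ * x * v by rw [hg, hy]; group]; exact hv
  have hgy1 : g⁻¹ * y * g ≠ 1 := fun e => hy1 (by
    rw [show y = g * (g⁻¹ * y * g) * g⁻¹ by group, e]; simp)
  obtain ⟨z, hz, hz1⟩ := h.Cen_ne_bot
  -- `z` centralises `y`, so it normalises `g A g⁻¹`
  have hzy : g⁻¹ * z * g ∈ M := h.centralizer_le hgy hgy1 (mem_centralizer_singleton_iff.2 (by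
    calc g⁻¹ * z * g * (g⁻¹ * y * g) = g⁻¹ * (z * y) * g := by group
      _ = g⁻¹ * (y * z) * g := by rw [hz.2 y hu]
      _ = g⁻¹ * y * g * (g⁻¹ * z * g) := by group))
  set w := g⁻¹ * z * g with hw
  have hw1 : w ≠ 1 := fun e => hz1 (by rw [show z = g * w * g⁻¹ by rw [hw]; group, e]; simp)
  -- hence lies in it
  have hwA : w ∈ A := by
    have hn : ((A.subgroupOf M)).Normal :=
      (normal_subgroupOf_iff_le_normalizer le_normalizer).2 le_rfl
    have hpr : Primes A (A ⊔ zpowers w) := by
      intro q hq hd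
      haveI := hn
      have hle1 : A ≤ M := le_normalizer
      have hle2 : zpowers w ≤ M := zpowers_le.2 hzy
      have hdd := Cfsg.Lib.Core.card_sup_dvd_mul ((zpowers w).subgroupOf M) (A.subgroupOf M)
      rw [← subgroupOf_sup hle2 hle1, Nat.card_congr (subgroupOfEquivOfLe (sup_le hle2 hle1)).toEquiv,
        Nat.card_congr (subgroupOfEquivOfLe hle1).toEquiv,
        Nat.card_congr (subgroupOfEquivOfLe hle2).toEquiv, sup_comm, Nat.card_zpowers] at hdd
      rcases hq.dvd_mul.1 (hd.trans hdd) with h' | h'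
      · refine h'.trans ?_
        rw [hw, show g⁻¹ * z * g = MulAut.conj g⁻¹ z by simp, MulEquiv.orderOf_eq]
        exact (Subgroup.orderOf_coe (⟨z, hz.1⟩ : A)) ▸ orderOf_dvd_natCard _
      · exact h'
    obtain ⟨c, hc⟩ := h.exists_le_conj hpr
    have := eq_of_le_of_card_ge (le_sup_left : A ≤ A ⊔ zpowers w) ((card_le_of_le hc).trans
      (card_map_of_injective (MulAut.conj c).injective).le)
    rw [this]
    exact le_sup_right (a := A) (mem_zpowers w)
  -- whose centraliser contains a conjugate of `A`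
  refine mem_normalizer_fintype ?_
  have hAle : A.map (MulAut.conj g⁻¹).toMonoidHom ≤ M := by
    refine le_trans ?_ (h.centralizer_le hwA hw1)
    rintro _ ⟨a, ha, rfl⟩
    refine mem_centralizer_singleton_iff.2 ?_
    simp only [MulEquiv.coe_toMonoidHom, MulAut.conj_apply, inv_inv, hw]
    calc g⁻¹ * a * g * (g⁻¹ * z * g) = g⁻¹ * (a * z) * g := by group
      _ = g⁻¹ * (z * a) * g := by rw [hz.2 a ha]
      _ = g⁻¹ * z * g * (g⁻¹ * a * g) := by group
  have hpr : Primes A (A ⊔ A.map (MulAut.conj g⁻¹).toMonoidHom) := by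
    intro q hq hd
    have hn : ((A.subgroupOf M)).Normal :=
      (normal_subgroupOf_iff_le_normalizer le_normalizer).2 le_rfl
    haveI := hn
    have hle1 : A ≤ M := le_normalizer
    have hdd := Cfsg.Lib.Core.card_sup_dvd_mul ((A.map (MulAut.conj g⁻¹).toMonoidHom).subgroupOf M) (A.subgroupOf M)
    rw [← subgroupOf_sup hAle hle1, Nat.card_congr (subgroupOfEquivOfLe (sup_le hAle hle1)).toEquiv,
      Nat.card_congr (subgroupOfEquivOfLe hle1).toEquiv,
      Nat.card_congr (subgroupOfEquivOfLe hAle).toEquiv, sup_comm,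
      card_map_of_injective (MulAut.conj g⁻¹).injective] at hdd
    rcases hq.dvd_mul.1 (hd.trans hdd) with h' | h' <;> exact h'
  obtain ⟨c, hc⟩ := h.exists_le_conj hpr
  have e := eq_of_le_of_card_ge (le_sup_left : A ≤ A ⊔ A.map (MulAut.conj g⁻¹).toMonoidHom)
    ((card_le_of_le hc).trans (card_map_of_injective (MulAut.conj c).injective).le)
  have e2 : A.map (MulAut.conj g⁻¹).toMonoidHom = A := eq_of_le_of_card_ge
    ((le_sup_right (a := A)).trans e.symm.le) (card_map_of_injective (MulAut.conj g⁻¹).injective).ge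
  intro a ha
  have := (e2.ge ha : a ∈ A.map (MulAut.conj g⁻¹).toMonoidHom)
  rw [mem_map_conj] at this
  simpa [mul_assoc] using this

/-- Elements all of whose prime divisors of the order come from `B`. -/
def IsB (B : Subgroup G) (g : G) : Prop := ∀ q : ℕ, q.Prime → q ∣ orderOf g → q ∣ Nat.card B

theorem IsB.mem {g : G} {B : Subgroup G} (hg : g ∈ B) : IsB B g := fun q _ hd =>
  hd.trans ((Subgroup.orderOf_coe (⟨g, hg⟩ : B)) ▸ orderOf_dvd_natCard _)

theorem isB_conj {g c : G} {B : Subgroup G} : IsB B (c * g * c⁻¹) ↔ IsB B g := by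
  unfold IsB
  rw [show c * g * c⁻¹ = MulAut.conj c g from rfl, MulEquiv.orderOf_eq]

theorem Ctx.contra (h : Ctx A B) : False := by
  classical
  set M := normalizer (A : Set G) with hM
  set K := normalizer (B : Set G) with hK
  set n := M.index with hn
  set m := K.index with hm
  set SG := {g : G // IsB B g} with hSG
  set NG := {g : G // ¬ IsB B g} with hNG
  set SM := {g : M // IsB B (g : G)} with hSM
  set NM := {g : M // ¬ IsB B (g : G)} with hNM
  -- many elements of `B`-type
  have h1 : m * (Nat.card B - 1) + 1 ≤ Nat.card SG := by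
    let f : Option ((G ⧸ K) × {b : B // (b : G) ≠ 1}) → SG := fun o => o.elim
      ⟨1, IsB.mem (one_mem B)⟩
      fun p => ⟨p.1.out * ((p.2 : B) : G) * p.1.out⁻¹, isB_conj.2 (IsB.mem (p.2 : B).2)⟩
    have hne : ∀ p : (G ⧸ K) × {b : B // (b : G) ≠ 1},
        p.1.out * ((p.2 : B) : G) * p.1.out⁻¹ ≠ 1 := fun p e => p.2.2 (by simpa using e)
    have hf : Function.Injective f := by
      rintro (_ | p) (_ | p') e
      · rfl
      · exact absurd (congrArg Subtype.val e).symm (hne p')
      · exact absurd (congrArg Subtype.val e) (hne p)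
      · have e' : p.1.out * ((p.2 : B) : G) * p.1.out⁻¹ = p'.1.out * ((p'.2 : B) : G) * p'.1.out⁻¹ :=
          congrArg Subtype.val e
        have hk := h.symm.ti (u := p.1.out) (v := p'.1.out) (hne p)
          (by simpa [mul_assoc] using (p.2 : B).2) (by rw [e']; simpa [mul_assoc] using (p'.2 : B).2)
        have hq : p.1 = p'.1 := by
          rw [← p.1.out_eq', ← p'.1.out_eq']
          exact QuotientGroup.eq.2 hk
        refine congrArg some (Prod.ext hq (Subtype.ext (Subtype.ext ?_)))
        rw [hq] at e'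
        exact mul_left_cancel (mul_right_cancel e')
    have hc : Nat.card {b : B // (b : G) ≠ 1} + 1 = Nat.card B := by
      rw [← Finite.card_option]
      refine Nat.card_congr ((Equiv.optionCongr (Equiv.subtypeEquivRight fun b => ?_)).trans
        (Equiv.optionSubtypeNe (1 : B)))
      simp
    have := Nat.card_le_card_of_injective f hf
    rw [Finite.card_option, Nat.card_prod, ← index] at this
    rw [hm]
    calc K.index * (Nat.card B - 1) + 1 = K.index * Nat.card {b : B // (b : G) ≠ 1} + 1 := by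
          rw [show Nat.card B - 1 = Nat.card {b : B // (b : G) ≠ 1} by omega]
      _ ≤ _ := this
  -- many elements not of that type
  have h2 : n * Nat.card NM ≤ Nat.card NG := by
    let f : (G ⧸ M) × NM → NG := fun p =>
      ⟨p.1.out * ((p.2 : M) : G) * p.1.out⁻¹, fun e => p.2.2 (isB_conj.1 e)⟩
    have hf : Function.Injective f := by
      intro p p' e
      have e' : p.1.out * ((p.2 : M) : G) * p.1.out⁻¹ = p'.1.out * ((p'.2 : M) : G) * p'.1.out⁻¹ :=
        congrArg Subtype.val e
      set g := p.1.out * ((p.2 : M) : G) * p.1.out⁻¹ with hg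
      have hgB : ¬ IsB B g := fun e => p.2.2 (isB_conj.1 e)
      unfold IsB at hgB
      push_neg at hgB
      obtain ⟨q, hq, hqd, hqB⟩ := hgB
      haveI := Fact.mk hq
      set x := g ^ (orderOf g / q) with hx
      have hxo : orderOf x = q := orderOf_pow_orderOf_div (orderOf_pos g).ne' hqd
      have hqA : q ∣ Nat.card A :=
        (h.dvd_or hq (hxo ▸ orderOf_dvd_natCard x)).resolve_right hqB
      -- a `q`-element of a conjugate of `M` lies in that conjugate of `A`
      have hin : ∀ c : G, c⁻¹ * g * c ∈ M → c⁻¹ * x * c ∈ A := by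
        intro c hc
        set y := c⁻¹ * x * c with hy
        have hyM : y ∈ M := by
          have e : y = (c⁻¹ * g * c) ^ (orderOf g / q) := by
            rw [hy, hx]
            simpa using (conj_pow (i := orderOf g / q) (a := c⁻¹) (b := g)).symm
          rw [e]
          exact pow_mem hc _
        have hyo : orderOf y = q := by
          rw [hy, show c⁻¹ * x * c = MulAut.conj c⁻¹ x by simp, MulEquiv.orderOf_eq, hxo]
        have hn : ((A.subgroupOf M)).Normal :=
          (normal_subgroupOf_iff_le_normalizer le_normalizer).2 le_rfl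
        haveI := hn
        have hle1 : A ≤ M := le_normalizer
        have hle2 : zpowers y ≤ M := zpowers_le.2 hyM
        have hpr : Primes A (A ⊔ zpowers y) := by
          intro t ht hd
          have hdd := Cfsg.Lib.Core.card_sup_dvd_mul ((zpowers y).subgroupOf M) (A.subgroupOf M)
          rw [← subgroupOf_sup hle2 hle1, Nat.card_congr (subgroupOfEquivOfLe (sup_le hle2 hle1)).toEquiv,
            Nat.card_congr (subgroupOfEquivOfLe hle1).toEquiv,
            Nat.card_congr (subgroupOfEquivOfLe hle2).toEquiv, sup_comm, Nat.card_zpowers, hyo] at hdd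
          rcases ht.dvd_mul.1 (hd.trans hdd) with h' | h'
          · rwa [(Nat.prime_dvd_prime_iff_eq ht hq).1 h']
          · exact h'
        obtain ⟨d, hd⟩ := h.exists_le_conj hpr
        have := eq_of_le_of_card_ge (le_sup_left : A ≤ A ⊔ zpowers y) ((card_le_of_le hd).trans
          (card_map_of_injective (MulAut.conj d).injective).le)
        rw [this]
        exact le_sup_right (a := A) (mem_zpowers y)
      have hk := h.ti (u := p.1.out) (v := p'.1.out) (x := x)
        (fun e => hq.ne_one (by rw [← hxo, e, orderOf_one]))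
        (hin _ (by rw [hg]; simpa [mul_assoc] using (p.2 : M).2))
        (hin _ (by rw [e']; simpa [mul_assoc] using (p'.2 : M).2))
      have hq : p.1 = p'.1 := by
        rw [← p.1.out_eq', ← p'.1.out_eq']
        exact QuotientGroup.eq.2 hk
      refine Prod.ext hq (Subtype.ext (Subtype.ext ?_))
      have e'' : p.1.out * ((p.2 : M) : G) * p.1.out⁻¹ = p'.1.out * ((p'.2 : M) : G) * p'.1.out⁻¹ := e'
      rw [hq] at e''
      exact mul_left_cancel (mul_right_cancel e'')
    have := Nat.card_le_card_of_injective f hf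
    rwa [Nat.card_prod, ← index] at this
  -- few elements of `B`-type in `M`
  set A1 := (K ⊓ A).subgroupOf A with hA1
  set B1 := M ⊓ B with hB1
  have hMp : SubProd M A B := fun g hg => by
    obtain ⟨a, ha, b, hb, rfl⟩ := h.prod g
    exact ⟨a, ⟨le_normalizer ha, ha⟩, b,
      ⟨by simpa using mul_mem (inv_mem (le_normalizer ha : a ∈ M)) hg, hb⟩, rfl⟩
  have hKp : SubProd K B A := fun g hg => by
    obtain ⟨b, hb, a, ha, rfl⟩ := h.prod.symm g
    exact ⟨b, ⟨le_normalizer hb, hb⟩, a,
      ⟨by simpa using mul_mem (inv_mem (le_normalizer hb : b ∈ K)) hg, ha⟩, rfl⟩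
  have hcomm : ∀ d ∈ K ⊓ A, ∀ s ∈ B1, d * s = s * d := by
    rintro d ⟨hdK, hdA⟩ s ⟨hsM, hsB⟩
    have hm : d * s * d⁻¹ * s⁻¹ ∈ A ⊓ B := by
      refine ⟨?_, B.mul_mem ((mem_normalizer_iff.1 hdK s).1 hsB) (B.inv_mem hsB)⟩
      rw [show d * s * d⁻¹ * s⁻¹ = d * (s * d⁻¹ * s⁻¹) by group]
      exact mul_mem hdA ((mem_normalizer_iff.1 hsM _).1 (inv_mem hdA))
    rw [inf_eq_bot_of_coprime h.cop, mem_bot] at hm
    calc d * s = d * s * d⁻¹ * s⁻¹ * (s * d) := by group
      _ = s * d := by rw [hm, one_mul]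
  have h3 : Nat.card SM ≤ A1.index * (Nat.card B1 - 1) + 1 := by
    let f : Option ((A ⧸ A1) × {b : B1 // (b : G) ≠ 1}) → SM := fun o => o.elim
      ⟨1, IsB.mem (B := B) (one_mem B)⟩
      fun p => ⟨⟨(p.1.out : G) * ((p.2 : B1) : G) * (p.1.out : G)⁻¹,
          mul_mem (mul_mem (le_normalizer (H := A) p.1.out.2) (p.2 : B1).2.1)
            (inv_mem (le_normalizer (H := A) p.1.out.2))⟩,
        isB_conj.2 (IsB.mem (p.2 : B1).2.2)⟩
    have hf : Function.Surjective f := by
      rintro ⟨⟨t, htM⟩, ht⟩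
      by_cases ht1 : t = 1
      · exact ⟨none, by subst ht1; rfl⟩
      obtain ⟨c, hc⟩ := h.symm.exists_le_conj (S := zpowers t)
        (fun q hq hd => ht q hq (by rwa [Nat.card_zpowers] at hd))
      obtain ⟨a, ha, b, hb, rfl⟩ := h.prod c
      have hsB : a⁻¹ * t * a ∈ B := by
        have := mem_map_conj.1 (hc (mem_zpowers t))
        rw [show a⁻¹ * t * a = b * ((a * b)⁻¹ * t * (a * b)) * b⁻¹ by group]
        exact mul_mem (mul_mem hb this) (inv_mem hb)
      have hs1 : a⁻¹ * t * a ∈ B1 :=
        ⟨M.mul_mem (M.mul_mem (M.inv_mem (le_normalizer (H := A) ha)) htM) (le_normalizer (H := A) ha), hsB⟩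
      have hne : a⁻¹ * t * a ≠ 1 := fun e => ht1 (by
        rw [show t = a * (a⁻¹ * t * a) * a⁻¹ by group, e]; simp)
      refine ⟨some (((⟨a, ha⟩ : A) : A ⧸ A1), ⟨⟨_, hs1⟩, hne⟩), Subtype.ext (Subtype.ext ?_)⟩
      show ((((⟨a, ha⟩ : A) : A ⧸ A1).out : A) : G) * (a⁻¹ * t * a) *
        ((((⟨a, ha⟩ : A) : A ⧸ A1).out : A) : G)⁻¹ = t
      obtain ⟨d, hd⟩ := QuotientGroup.mk_out_eq_mul A1 (⟨a, ha⟩ : A)
      rw [hd]
      simp only [Subgroup.coe_mul]
      have hdc := hcomm ((d : A) : G) d.2 _ hs1
      calc a * ((d : A) : G) * (a⁻¹ * t * a) * (a * ((d : A) : G))⁻¹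
          = a * (((d : A) : G) * (a⁻¹ * t * a)) * ((d : A) : G)⁻¹ * a⁻¹ := by group
        _ = a * ((a⁻¹ * t * a) * ((d : A) : G)) * ((d : A) : G)⁻¹ * a⁻¹ := by rw [hdc]
        _ = t := by group
    have hc : Nat.card {b : B1 // (b : G) ≠ 1} + 1 = Nat.card B1 := by
      rw [← Finite.card_option]
      refine Nat.card_congr ((Equiv.optionCongr (Equiv.subtypeEquivRight fun b => ?_)).trans
        (Equiv.optionSubtypeNe (1 : B1)))
      simp
    have := Nat.card_le_card_of_surjective f hf
    rw [Finite.card_option, Nat.card_prod, ← index] at this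
    rw [show Nat.card B1 - 1 = Nat.card {b : B1 // (b : G) ≠ 1} by omega]
    exact this
  -- arithmetic
  have e1 : Nat.card SG + Nat.card NG = Nat.card A * Nat.card B := by
    rw [← (card_prod h.cop h.prod).1, ← Nat.card_sum]
    exact Nat.card_congr (Equiv.sumCompl _)
  have e2 : Nat.card SM + Nat.card NM = Nat.card M := by
    rw [← Nat.card_sum]
    exact Nat.card_congr (Equiv.sumCompl _)
  have e3 : Nat.card M = Nat.card A * Nat.card B1 := by
    have := card_subProd h.cop hMp
    rw [← card_mul_index ((M ⊓ A).subgroupOf M), this,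
      Nat.card_congr (subgroupOfEquivOfLe (inf_le_left : M ⊓ A ≤ M)).toEquiv,
      inf_eq_right.2 le_normalizer]
  have e4 : Nat.card B = n * Nat.card B1 := by
    have := (card_prod h.cop h.prod).1
    rw [← M.card_mul_index, e3, ← hn, mul_assoc, mul_comm (Nat.card B1)] at this
    exact (mul_left_cancel₀ Nat.card_pos.ne' this).symm
  have e5 : Nat.card A = m * Nat.card ↥(K ⊓ A) := by
    have hk := card_subProd h.cop.symm hKp
    have hKc : Nat.card K = Nat.card B * Nat.card ↥(K ⊓ A) := by
      rw [← card_mul_index ((K ⊓ B).subgroupOf K), hk,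
        Nat.card_congr (subgroupOfEquivOfLe (inf_le_left : K ⊓ B ≤ K)).toEquiv,
        inf_eq_right.2 le_normalizer]
    have := (card_prod h.cop.symm h.prod.symm).1
    rw [← K.card_mul_index, hKc, ← hm, mul_assoc, mul_comm (Nat.card ↥(K ⊓ A))] at this
    exact (mul_left_cancel₀ Nat.card_pos.ne' this).symm
  have e6 : A1.index = m := by
    have := A1.card_mul_index
    rw [Nat.card_congr (subgroupOfEquivOfLe (inf_le_right : K ⊓ A ≤ A)).toEquiv, e5,
      mul_comm m] at this
    exact mul_left_cancel₀ Nat.card_pos.ne' this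
  have hn2 : 2 ≤ n := one_lt_index_of_ne_top (h.normalizer_A_ne_top)
  have hm2 : 2 ≤ m := one_lt_index_of_ne_top (h.symm.normalizer_A_ne_top)
  rw [e6] at h3
  have hb1 : 1 ≤ Nat.card B1 := Nat.card_pos
  obtain ⟨c, hc⟩ := Nat.exists_eq_add_of_le hb1
  rw [hc] at h3 e3 e4
  have hb : 1 ≤ Nat.card B := Nat.card_pos
  obtain ⟨d, hd⟩ := Nat.exists_eq_add_of_le hb
  rw [hd] at h1 e1 e4
  simp only [Nat.add_sub_cancel_left] at h1 h3
  obtain ⟨n', hn'⟩ : ∃ n', n = n' + 2 := ⟨n - 2, by omega⟩
  rw [hn'] at h2 e4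
  obtain ⟨m', hm'⟩ : ∃ m', m = m' + 2 := ⟨m - 2, by omega⟩
  rw [hm'] at h1 h3
  nlinarith [Nat.mul_le_mul_left (n' + 2) h3, h1, h2, e1, e2, e3, e4]

end Count

/-- Wielandt's theorem: a product of two nilpotent subgroups of coprime orders is solvable. -/
theorem solvable_of_coprime : ∀ (n : ℕ) (G : Type u) [Group G] [Finite G] (A B : Subgroup G),
    Nat.card G ≤ n → Group.IsNilpotent A → Group.IsNilpotent B →
      (Nat.card A).Coprime (Nat.card B) → IsProd A B → Group.IsSolvable G := by
  intro n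
  induction n with
  | zero => intro G _ _ A B hn; exact absurd (Nat.card_pos (α := G)) (by omega)
  | succ n ih =>
    intro G _ _ A B hn hA hB hcop hprod
    by_contra hns
    have hsub : ∀ T : Subgroup G, T ≠ ⊤ → SubProd T A B → Group.IsSolvable T := by
      intro T hT hp
      refine ih T ((T ⊓ A).subgroupOf T) ((T ⊓ B).subgroupOf T)
        (by have := Cfsg.Lib.Core.lt_card_of_ne_top hT; omega) ?_ ?_ ?_ fun g => ?_
      · haveI := Cfsg.Lib.Core.isNilpotent_of_le (inf_le_right : T ⊓ A ≤ A) hA
        exact Group.nilpotent_of_mulEquiv (subgroupOfEquivOfLe inf_le_left).symm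
      · haveI := Cfsg.Lib.Core.isNilpotent_of_le (inf_le_right : T ⊓ B ≤ B) hB
        exact Group.nilpotent_of_mulEquiv (subgroupOfEquivOfLe inf_le_left).symm
      · rw [Nat.card_congr (subgroupOfEquivOfLe (inf_le_left : T ⊓ A ≤ T)).toEquiv,
          Nat.card_congr (subgroupOfEquivOfLe (inf_le_left : T ⊓ B ≤ T)).toEquiv]
        exact Nat.Coprime.coprime_dvd_right (card_dvd_of_le inf_le_right)
          (Nat.Coprime.coprime_dvd_left (card_dvd_of_le inf_le_right) hcop)
      · obtain ⟨a, ha, b, hb, e⟩ := hp g g.2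
        exact ⟨⟨a, ha.1⟩, ha, ⟨b, hb.1⟩, hb, Subtype.ext e⟩
    haveI : Nontrivial G := by
      by_contra hnt
      rw [not_nontrivial_iff_subsingleton] at hnt
      exact hns (Group.isSolvable_of_comm fun a b => Subsingleton.elim _ _)
    have hsimple : IsSimpleGroup G := ⟨fun N hN => by
      by_contra hcon
      push_neg at hcon
      obtain ⟨h0, h1⟩ := hcon
      haveI := hN
      obtain ⟨hG, hAi⟩ := card_prod hcop hprod
      have hBi := (card_prod hcop.symm hprod.symm).2
      -- `N` is a product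
      have hNp : SubProd N A B := by
        have key : ∀ A B : Subgroup G, Group.IsNilpotent A → (Nat.card A).Coprime (Nat.card B) →
            IsProd A B → ∀ (p k : ℕ), p.Prime → p ∣ Nat.card A → p ^ k ∣ Nat.card N →
              p ^ k ∣ Nat.card ↥(N ⊓ A) := by
          intro A B hA hcop hprod p k hp hpA hk
          haveI := Fact.mk hp
          obtain ⟨Q, hQ⟩ := Sylow.exists_subgroup_card_pow_prime (G := N) p hk
          have hQc : Nat.card (Q.map N.subtype) = p ^ k := by
            rw [Cfsg.Lib.Core.card_map_subtype, hQ]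
          obtain ⟨c, hc⟩ := Cfsg.Agent.S0581.result A (Q.map N.subtype) hA
            (by rw [(card_prod hcop hprod).2]; exact hcop) (fun q hq hd => by
              rw [hQc] at hd
              rwa [(Nat.prime_dvd_prime_iff_eq hq hp).1 (hq.dvd_of_dvd_pow hd)])
          rw [Cfsg.Lib.Core.conj_smul_eq_map] at hc
          rw [← hQc, ← card_map_of_injective (K := Q.map N.subtype) (f := (MulAut.conj c⁻¹).toMonoidHom)
            (MulAut.conj c⁻¹).injective]
          refine card_dvd_of_le ?_
          rintro _ ⟨u, hu, rfl⟩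
          refine ⟨?_, by simpa [mul_assoc] using mem_map_conj.1 (hc hu)⟩
          simpa using hN.conj_mem u (map_subtype_le Q hu) c⁻¹
        have hle : Nat.card N ≤ Nat.card ↥(N ⊓ A) * Nat.card ↥(N ⊓ B) := by
          refine Nat.le_of_dvd (Nat.mul_pos Nat.card_pos Nat.card_pos)
            ((Nat.dvd_iff_prime_pow_dvd_dvd _ _).2 fun p k hp hk => ?_)
          rcases Nat.eq_zero_or_pos k with rfl | hk0
          · simp
          have hpG : p ∣ Nat.card A * Nat.card B :=
            hG ▸ ((dvd_pow_self p hk0.ne').trans hk).trans (card_subgroup_dvd_card N)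
          rcases hp.dvd_mul.1 hpG with h' | h'
          · exact (key A B hA hcop hprod p k hp h' hk).trans (dvd_mul_right _ _)
          · exact (key B A hB hcop.symm hprod.symm p k hp h' hk).trans (dvd_mul_left _ _)
        have hset : ((N ⊓ A : Subgroup G) : Set G) * ((N ⊓ B : Subgroup G) : Set G) = N := by
          refine Set.eq_of_subset_of_ncard_le ?_ ?_ (Set.toFinite _)
          · rintro _ ⟨a, ha, b, hb, rfl⟩
            exact mul_mem ha.1 hb.1
          · rw [← Nat.card_coe_set_eq, ← Nat.card_coe_set_eq, SetLike.coe_sort_coe,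
              Cfsg.Lib.Solv.card_mul_set]
            refine hle.trans (le_of_eq ?_)
            have hd : (N ⊓ B) ⊓ (N ⊓ A) = ⊥ := eq_bot_iff.2
              ((inf_le_inf inf_le_right inf_le_right).trans (inf_eq_bot_of_coprime hcop.symm).le)
            rw [← inf_relIndex_right, hd, relIndex_bot_left]
            ring
        intro g hg
        have hg' : g ∈ ((N ⊓ A : Subgroup G) : Set G) * ((N ⊓ B : Subgroup G) : Set G) := by
          rw [hset]; exact hg
        obtain ⟨a, ha, b, hb, rfl⟩ := hg'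
        exact ⟨a, ha, b, hb, rfl⟩
      haveI := hsub N h1 hNp
      haveI : Group.IsSolvable (G ⧸ N) := by
        let π := QuotientGroup.mk' N
        refine ih (G ⧸ N) (A.map π) (B.map π)
          (by have := Cfsg.Lib.Core.card_quotient_lt h0; omega)
          (Cfsg.Lib.Core.isNilpotent_map hA π) (Cfsg.Lib.Core.isNilpotent_map hB π)
          (Nat.Coprime.coprime_dvd_right (Cfsg.Lib.Core.card_map_dvd π B)
            (Nat.Coprime.coprime_dvd_left (Cfsg.Lib.Core.card_map_dvd π A) hcop)) fun g => ?_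
        obtain ⟨g, rfl⟩ := QuotientGroup.mk'_surjective N g
        obtain ⟨a, ha, b, hb, rfl⟩ := hprod g
        exact ⟨π a, mem_map_of_mem _ ha, π b, mem_map_of_mem _ hb, map_mul _ _ _⟩
      exact hns (Group.isSolvable_of_ker_le_range N.subtype (QuotientGroup.mk' N)
        (by simp))⟩
    exact Ctx.contra ⟨hA, hB, hcop, hprod, hsimple, hns, hsub⟩

end Cfsg.Lib.Solv.KW
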