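import Cfsg.Agent.S0562
import Cfsg.Agent.S0581
import Cfsg.Agent.S0143
import Cfsg.Agent.Lib.Solv.Hall
import Cfsg.Agent.Lib.Solv.Product
import Cfsg.Agent.Lib.Solv.Nilpotent
import Cfsg.Agent.Lib.PGroup.Elements
import Cfsg.Agent.Lib.Core.Layer
import Cfsg.Agent.Lib.Core.Cores

/-!
Products of two nilpotent subgroups of coprime orders: the setting of a minimal counterexample to
Wielandt's theorem and the pairs of subgroups that cannot lie in a proper subgroup.
-/

set_option autoImplicit false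

namespace Cfsg.Lib.Solv.KW

open Subgroup Cfsg

variable {G : Type*} [Group G]

/-- Every element is a product of an element of `A` and one of `B`. -/
def IsProd (A B : Subgroup G) : Prop := ∀ g : G, ∃ a ∈ A, ∃ b ∈ B, g = a * b

/-- `T` is the product of its intersections with `A` and `B`. -/
def SubProd (T A B : Subgroup G) : Prop := ∀ g ∈ T, ∃ a ∈ T ⊓ A, ∃ b ∈ T ⊓ B, g = a * b

/-- Every prime divisor of `|S|` divides `|A|`. -/
def Primes (A S : Subgroup G) : Prop := ∀ p : ℕ, p.Prime → p ∣ Nat.card S → p ∣ Nat.card A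

theorem IsProd.symm {A B : Subgroup G} (h : IsProd A B) : IsProd B A := fun g => by
  obtain ⟨a, ha, b, hb, e⟩ := h g⁻¹
  exact ⟨b⁻¹, inv_mem hb, a⁻¹, inv_mem ha, by rw [← mul_inv_rev, ← e, inv_inv]⟩

theorem SubProd.symm {T A B : Subgroup G} (h : SubProd T A B) : SubProd T B A := fun g hg => by
  obtain ⟨a, ha, b, hb, e⟩ := h g⁻¹ (inv_mem hg)
  exact ⟨b⁻¹, inv_mem hb, a⁻¹, inv_mem ha, by rw [← mul_inv_rev, ← e, inv_inv]⟩

theorem mem_map_conj {H : Subgroup G} {g x : G} :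
    x ∈ H.map (MulAut.conj g).toMonoidHom ↔ g⁻¹ * x * g ∈ H := by
  constructor
  · rintro ⟨y, hy, rfl⟩
    simpa [mul_assoc] using hy
  · intro h
    exact ⟨_, h, by simp [mul_assoc]⟩

/-- The central elements of `A`, as a subgroup of `G`. -/
def Cen (A : Subgroup G) : Subgroup G := A ⊓ centralizer (A : Set G)

/-- A Sylow `p`-subgroup of `A`, as a subgroup of `G` (unique if `A` is nilpotent). -/
noncomputable def part (A : Subgroup G) (p : ℕ) : Subgroup G :=
  ((Classical.arbitrary (Sylow p A)) : Subgroup A).map A.subtype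

theorem part_le (A : Subgroup G) (p : ℕ) : part A p ≤ A := map_subtype_le _

theorem part_isPGroup (A : Subgroup G) (p : ℕ) : IsPGroup p ↥(part A p) :=
  (Classical.arbitrary (Sylow p A)).isPGroup'.map _

variable [Finite G]

theorem part_normal {A : Subgroup G} (hA : Group.IsNilpotent A) (p : ℕ) [Fact p.Prime] :
    ((Classical.arbitrary (Sylow p A)) : Subgroup A).Normal :=
  (Group.isNilpotent_of_finite_tfae.out 0 3 rfl rfl).mp hA p ‹_› _

theorem le_normalizer_part {A : Subgroup G} (hA : Group.IsNilpotent A) (p : ℕ) [Fact p.Prime] :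
    A ≤ normalizer (part A p : Set G) := by
  have h := part_normal hA p
  have e : (part A p).subgroupOf A = ((Classical.arbitrary (Sylow p A)) : Subgroup A) :=
    comap_map_eq_self_of_injective A.subtype_injective _
  exact (normal_subgroupOf_iff_le_normalizer (part_le A p)).1 (e ▸ h)

theorem mem_part {A : Subgroup G} (hA : Group.IsNilpotent A) (p : ℕ) [Fact p.Prime] {x : G}
    (hx : x ∈ A) (hp : ∃ k : ℕ, orderOf x = p ^ k) : x ∈ part A p := by
  have h := part_normal hA p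
  obtain ⟨k, hk⟩ := hp
  have hz : IsPGroup p ↥(zpowers (⟨x, hx⟩ : A)) :=
    IsPGroup.of_card (n := k) (by rw [Nat.card_zpowers, ← hk, ← Subgroup.orderOf_coe])
  refine ⟨⟨x, hx⟩, ?_, rfl⟩
  set P := Classical.arbitrary (Sylow p A)
  have hmax := P.is_maximal' (hz.to_sup_of_normal_right P.isPGroup') le_sup_right
  exact hmax.le (le_sup_left (b := (P : Subgroup A)) (mem_zpowers _))

theorem le_part {A : Subgroup G} (hA : Group.IsNilpotent A) (p : ℕ) [Fact p.Prime]
    {S : Subgroup G} (hS : S ≤ A) (hp : IsPGroup p ↥S) : S ≤ part A p := fun x hx =>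
  mem_part hA p (hS hx) (by
    obtain ⟨k, hk⟩ := IsPGroup.iff_orderOf.1 hp ⟨x, hx⟩
    exact ⟨k, by rw [← Subgroup.orderOf_coe] at hk; exact hk⟩)

theorem commute_part {A : Subgroup G} (hA : Group.IsNilpotent A) {p r : ℕ} [Fact p.Prime]
    [Fact r.Prime] (hne : p ≠ r) {x y : G} (hx : x ∈ part A p) (hy : y ∈ part A r) :
    Commute x y := by
  obtain ⟨i, hi⟩ := IsPGroup.iff_orderOf.1 (part_isPGroup A p) ⟨x, hx⟩
  obtain ⟨j, hj⟩ := IsPGroup.iff_orderOf.1 (part_isPGroup A r) ⟨y, hy⟩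
  rw [← Subgroup.orderOf_coe] at hi hj
  haveI := hA
  have hcop : (orderOf (⟨x, part_le A p hx⟩ : A)).Coprime (orderOf (⟨y, part_le A r hy⟩ : A)) := by
    rw [← Subgroup.orderOf_coe, ← Subgroup.orderOf_coe]
    simp only at hi hj ⊢
    rw [hi, hj]
    exact Nat.Coprime.pow _ _ ((Nat.coprime_primes Fact.out Fact.out).2 hne)
  exact (Cfsg.Lib.PGroup.commute_of_coprime_orderOf _ _ hcop).map A.subtype

theorem part_ne_bot {A : Subgroup G} (p : ℕ) [Fact p.Prime] (hp : p ∣ Nat.card A) :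
    part A p ≠ ⊥ := by
  intro h
  refine (Classical.arbitrary (Sylow p A)).ne_bot_of_dvd_card hp ?_
  exact (map_eq_bot_iff_of_injective _ A.subtype_injective).1 h

theorem exists_central {A : Subgroup G} (hA : Group.IsNilpotent A) (p : ℕ) [Fact p.Prime]
    (hp : p ∣ Nat.card A) : ∃ z ∈ Cen A, orderOf z = p ∧ z ∈ part A p := by
  haveI := hA
  haveI := part_normal hA p
  set P := ((Classical.arbitrary (Sylow p A)) : Subgroup A) with hP
  have hne : P ≠ ⊥ := (Classical.arbitrary (Sylow p A)).ne_bot_of_dvd_card hp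
  have hi := Cfsg.Lib.Solv.inf_center_ne_bot_of_isNilpotent hne
  have hpg : IsPGroup p ↥(P ⊓ center A) :=
    (Classical.arbitrary (Sylow p A)).isPGroup'.to_le inf_le_left
  haveI : Nontrivial ↥(P ⊓ center A) := (nontrivial_iff_ne_bot _).2 hi
  obtain ⟨k, hk, hc⟩ := hpg.nontrivial_iff_card.1 inferInstance
  obtain ⟨w, hw⟩ := exists_prime_orderOf_dvd_card' (G := ↥(P ⊓ center A)) p
    (hc ▸ dvd_pow_self p hk.ne')
  refine ⟨((w : A) : G), ⟨(w : A).2, ?_⟩, ?_, ⟨(w : A), w.2.1, rfl⟩⟩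
  · exact fun a ha => congrArg Subtype.val (mem_center_iff.1 w.2.2 ⟨a, ha⟩)
  · rw [Subgroup.orderOf_coe, Subgroup.orderOf_coe, hw]

theorem Cen_le (A : Subgroup G) : Cen A ≤ A := inf_le_left

theorem le_centralizer_of_mem_Cen {A : Subgroup G} {z : G} (hz : z ∈ Cen A) :
    A ≤ centralizer ({z} : Set G) := fun a ha => mem_centralizer_singleton_iff.2 (hz.2 a ha)

theorem card_prod {A B : Subgroup G} (hcop : (Nat.card A).Coprime (Nat.card B)) (h : IsProd A B) :
    Nat.card G = Nat.card A * Nat.card B ∧ A.index = Nat.card B := by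
  have hd : A ⊓ B = ⊥ := inf_eq_bot_of_coprime hcop
  have hc : IsComplement' A B := isComplement'_of_disjoint_and_mul_eq_univ (disjoint_iff.2 hd)
    (Set.eq_univ_of_forall fun g => by
      obtain ⟨a, ha, b, hb, rfl⟩ := h g
      exact Set.mul_mem_mul ha hb)
  exact ⟨hc.card_mul_card.symm, hc.symm.index_eq_card⟩

/-- The setting of a minimal counterexample. -/
structure Ctx (A B : Subgroup G) : Prop where
  nilA : Group.IsNilpotent A
  nilB : Group.IsNilpotent B
  cop : (Nat.card A).Coprime (Nat.card B)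
  prod : IsProd A B
  simple : IsSimpleGroup G
  nsolv : ¬ Group.IsSolvable G
  ih : ∀ T : Subgroup G, T ≠ ⊤ → SubProd T A B → Group.IsSolvable T

variable {A B : Subgroup G}

theorem Ctx.symm (h : Ctx A B) : Ctx B A :=
  ⟨h.nilB, h.nilA, h.cop.symm, h.prod.symm, h.simple, h.nsolv, fun T hT hp => h.ih T hT hp.symm⟩

theorem Ctx.normal_cases (h : Ctx A B) {N : Subgroup G} (hN : N.Normal) : N = ⊥ ∨ N = ⊤ :=
  h.simple.eq_bot_or_eq_top_of_normal N hN

theorem Ctx.normalizer_ne_top (h : Ctx A B) {N : Subgroup G} (h0 : N ≠ ⊥) (h1 : N ≠ ⊤) :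
    normalizer (N : Set G) ≠ ⊤ := fun e =>
  (h.normal_cases (normalizer_eq_top_iff.1 e)).elim h0 h1

theorem Ctx.B_ne_bot (h : Ctx A B) : B ≠ ⊥ := by
  intro hB
  refine h.nsolv ?_
  haveI := h.nilA
  have hA : A = ⊤ := eq_top_iff.2 fun g _ => by
    obtain ⟨a, ha, b, hb, rfl⟩ := h.prod g
    rw [hB, mem_bot] at hb
    rwa [hb, mul_one]
  subst hA
  haveI := Group.nilpotent_of_mulEquiv (topEquiv : (⊤ : Subgroup G) ≃* G)
  infer_instance

theorem Ctx.A_ne_bot (h : Ctx A B) : A ≠ ⊥ := h.symm.B_ne_bot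

theorem Ctx.card_lt (h : Ctx A B) : Nat.card A < Nat.card G ∧ 1 < Nat.card A ∧ 1 < Nat.card B := by
  have ha : 1 < Nat.card A := (one_lt_card_iff_ne_bot A).2 h.A_ne_bot
  have hb : 1 < Nat.card B := (one_lt_card_iff_ne_bot B).2 h.B_ne_bot
  refine ⟨?_, ha, hb⟩
  rw [(card_prod h.cop h.prod).1]
  exact lt_mul_of_one_lt_right (by omega) hb

/-- Any subgroup whose primes all divide `|A|` lies in a conjugate of `A`. -/
theorem Ctx.exists_le_conj (h : Ctx A B) {S : Subgroup G} (hS : Primes A S) :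
    ∃ x : G, S ≤ A.map (MulAut.conj x).toMonoidHom := by
  obtain ⟨x, hx⟩ := Cfsg.Agent.S0581.result A S h.nilA
    (by rw [(card_prod h.cop h.prod).2]; exact h.cop) hS
  exact ⟨x, by rwa [Cfsg.Lib.Core.conj_smul_eq_map] at hx⟩

theorem Ctx.primes_ne_top (h : Ctx A B) {S : Subgroup G} (hS : Primes A S) : S ≠ ⊤ := by
  intro e
  obtain ⟨x, hx⟩ := h.exists_le_conj hS
  have := Subgroup.card_le_of_le hx
  rw [e, Subgroup.card_top, card_map_of_injective (MulAut.conj x).injective] at this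
  exact absurd h.card_lt.1 (by omega)

theorem Ctx.primes_nilpotent (h : Ctx A B) {S : Subgroup G} (hS : Primes A S) :
    Group.IsNilpotent S := by
  obtain ⟨x, hx⟩ := h.exists_le_conj hS
  exact Cfsg.Lib.Core.isNilpotent_of_le hx (Cfsg.Lib.Core.isNilpotent_map h.nilA _)

theorem Ctx.dvd_or (h : Ctx A B) {p : ℕ} (hp : p.Prime) (hd : p ∣ Nat.card G) :
    p ∣ Nat.card A ∨ p ∣ Nat.card B := by
  rw [(card_prod h.cop h.prod).1] at hd
  exact hp.dvd_mul.1 hd

theorem Ctx.not_dvd (h : Ctx A B) {p : ℕ} (hp : p.Prime) (hd : p ∣ Nat.card A) :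
    ¬ p ∣ Nat.card B := fun hb => hp.not_dvd_one (h.cop ▸ Nat.dvd_gcd hd hb)

/-- Both factors have at least two prime divisors. -/
theorem Ctx.exists_other_prime (h : Ctx A B) (p : ℕ) (hp : p.Prime) :
    ∃ r : ℕ, r.Prime ∧ r ≠ p ∧ r ∣ Nat.card A := by
  by_contra hcon
  push_neg at hcon
  obtain ⟨q, hq, hqd⟩ := Nat.exists_prime_and_dvd (n := Nat.card B) (by have := h.card_lt; omega)
  haveI := Fact.mk hq
  obtain ⟨b, hb, hbo, -⟩ := exists_central h.nilB q hqd
  have hle : B ≤ centralizer ({b} : Set G) := le_centralizer_of_mem_Cen hb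
  obtain ⟨m, hpow⟩ : ∃ m, Nat.card A = p ^ m := ⟨_, Nat.eq_prime_pow_of_unique_prime_dvd
    Nat.card_pos.ne' fun {d} hd hdA => by
      by_contra hne
      exact hcon d hd hne hdA⟩
  have hdvd : (centralizer ({b} : Set G)).index ∣ Nat.card A := by
    rw [← (card_prod h.cop.symm h.prod.symm).2]
    exact index_dvd_of_le hle
  obtain ⟨j, -, hj⟩ := (Nat.dvd_prime_pow hp).1 (hpow ▸ hdvd)
  haveI := h.simple
  have hpr := Cfsg.Agent.S0143.result p j hp b (fun e => hq.ne_one (by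
    rw [← hbo, e, orderOf_one])) hj
  haveI : IsCyclic G := by
    haveI := Fact.mk hpr
    exact isCyclic_of_prime_card rfl
  exact h.nsolv inferInstance

/-- A conjugation carrying a given pair of conjugates of objects of `A` and `B` to the originals. -/
theorem Ctx.exists_conj_pair (h : Ctx A B) (x y : G) : ∃ g : G, g * x ∈ A ∧ g * y ∈ B := by
  obtain ⟨a, ha, b, hb, e⟩ := h.prod (x⁻¹ * y)
  refine ⟨a⁻¹ * x⁻¹, by simpa using ha, ?_⟩
  rw [mul_assoc, e, ← mul_assoc, inv_mul_cancel, one_mul]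
  exact hb

/-- The normaliser of the subgroup generated by normal subgroups of the factors is solvable. -/
theorem Ctx.solvable_normalizer (h : Ctx A B) {A₀ B₀ T : Subgroup G} (hA₀ : A₀ ≤ A)
    (hAn : A ≤ normalizer (A₀ : Set G)) (hB₀ : B₀ ≤ B) (hBn : B ≤ normalizer (B₀ : Set G))
    (h0 : A₀ ≠ ⊥) (hT : T ≠ ⊤) (hAT : A₀ ≤ T) (hBT : B₀ ≤ T) :
    ∃ L : Subgroup G, L ≠ ⊤ ∧ Group.IsSolvable L ∧ A₀ ≤ L ∧ B₀ ≤ L := by
  refine ⟨normalizer ((A₀ ⊔ B₀ : Subgroup G) : Set G), ?_, ?_,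
    le_sup_left.trans le_normalizer, le_sup_right.trans le_normalizer⟩
  · refine h.normalizer_ne_top (fun e => h0 (eq_bot_iff.2 (le_sup_left.trans e.le))) fun e => hT ?_
    exact eq_top_iff.2 (e ▸ sup_le hAT hBT)
  · refine h.ih _ (h.normalizer_ne_top (fun e => h0 (eq_bot_iff.2 (le_sup_left.trans e.le)))
      fun e => hT (eq_top_iff.2 (e ▸ sup_le hAT hBT))) ?_
    exact fun g hg => Cfsg.Agent.S0562.result A B A₀ B₀ h.prod hA₀
      ((normal_subgroupOf_iff_le_normalizer hA₀).2 hAn) hB₀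
      ((normal_subgroupOf_iff_le_normalizer hB₀).2 hBn) g hg

/-- No proper subgroup contains a conjugate of `A` and a conjugate of a central element of `B`. -/
theorem Ctx.no_over (h : Ctx A B) {T : Subgroup G} (hT : T ≠ ⊤) {x y b : G} (hb : b ∈ Cen B)
    (hA : A.map (MulAut.conj x).toMonoidHom ≤ T) (hbT : y * b * y⁻¹ ∈ T) : b = 1 := by
  obtain ⟨g, hgx, hgy⟩ := h.exists_conj_pair x y
  set T' := T.map (MulAut.conj g).toMonoidHom with hT'
  have hAT : A ≤ T' := fun a ha => mem_map_conj.2 (hA (mem_map_conj.2 (by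
    have : x⁻¹ * (g⁻¹ * a * g) * x = (g * x)⁻¹ * a * (g * x) := by group
    rw [this]
    exact mul_mem (mul_mem (inv_mem hgx) ha) hgx)))
  have hb' : b ∈ T' := mem_map_conj.2 (by
    have e := hb.2 _ hgy
    have : g⁻¹ * b * g = y * b * y⁻¹ := by
      calc g⁻¹ * b * g = g⁻¹ * (b * (g * y)) * y⁻¹ := by group
        _ = g⁻¹ * ((g * y) * b) * y⁻¹ := by rw [e]
        _ = y * b * y⁻¹ := by group
    rwa [this])
  have hle : normalClosure ({b} : Set G) ≤ T' := by
    refine (closure_le _).2 fun c hc => ?_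
    obtain ⟨d, hd, hconj⟩ := Group.mem_conjugatesOfSet_iff.1 hc
    rw [Set.mem_singleton_iff] at hd
    subst hd
    obtain ⟨u, rfl⟩ := isConj_iff.1 hconj
    obtain ⟨a, ha, β, hβ, rfl⟩ := h.prod u
    have : a * β * d * (a * β)⁻¹ = a * d * a⁻¹ := by
      calc a * β * d * (a * β)⁻¹ = a * (β * d) * β⁻¹ * a⁻¹ := by group
        _ = a * (d * β) * β⁻¹ * a⁻¹ := by rw [hb.2 β hβ]
        _ = a * d * a⁻¹ := by group
    rw [SetLike.mem_coe, this]
    exact mul_mem (mul_mem (hAT ha) hb') (inv_mem (hAT ha))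
  rcases h.normal_cases (normalClosure_normal (s := ({b} : Set G))) with e | e
  · have hm : b ∈ normalClosure ({b} : Set G) := subset_normalClosure rfl
    rwa [e, mem_bot] at hm
  · refine absurd ?_ hT
    have e' : T' = ⊤ := eq_top_iff.2 (e ▸ hle)
    refine eq_top_iff.2 fun u _ => ?_
    have hu : g * u * g⁻¹ ∈ T' := by rw [e']; exact mem_top _
    simpa [mul_assoc] using mem_map_conj.1 hu

omit [Finite G] in
theorem exists_pCore_ne_bot {U : Type*} [Group U] [Finite U] [Group.IsSolvable U] [Nontrivial U] :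
    ∃ t : ℕ, t.Prime ∧ pCore t U ≠ ⊥ := by
  obtain ⟨M, hM⟩ := Cfsg.Lib.Core.exists_isMinNormal_univ (G := U)
  obtain ⟨hc, -⟩ := Cfsg.Lib.Core.minimal_solvable_elementary hM
    (Cfsg.Lib.Core.isSolvable_of_le (le_top : M ≤ ⊤) inferInstance)
  have hle := Cfsg.Lib.Core.le_fittingSubgroup' hM.1
    (Cfsg.Lib.Core.isNilpotent_of_isMulCommutative M)
  by_contra hcon
  push_neg at hcon
  refine hM.2.1 (eq_bot_iff.2 (hle.trans ?_))
  rw [Cfsg.Lib.Core.fittingSubgroup_eq_iSup_pCore]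
  exact iSup_le fun t => (hcon t t.2).le

/-- A `p`-subgroup normal in a subgroup containing a full Sylow subgroup of `A` lies in it. -/
theorem Ctx.le_part_conj (h : Ctx A B) {p : ℕ} [Fact p.Prime] (hp : p ∣ Nat.card A) {x : G}
    {U Y : Subgroup G} (hU : (part A p).map (MulAut.conj x).toMonoidHom ≤ U) (hYU : Y ≤ U)
    (hYn : U ≤ normalizer (Y : Set G)) (hY : IsPGroup p ↥Y) :
    Y ≤ (part A p).map (MulAut.conj x).toMonoidHom := by
  set R := (part A p).map (MulAut.conj x).toMonoidHom with hR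
  have hRY : IsPGroup p ↥(R ⊔ Y : Subgroup G) :=
    ((part_isPGroup A p).map _).to_sup_of_normal_right' hY (hU.trans hYn)
  have hpr : Primes A (R ⊔ Y) := fun q hq hd => by
    obtain ⟨k, hk⟩ := IsPGroup.iff_card.1 hRY
    rw [hk] at hd
    rw [(Nat.prime_dvd_prime_iff_eq hq Fact.out).1 (hq.dvd_of_dvd_pow hd)]
    exact hp
  obtain ⟨w, hw⟩ := h.exists_le_conj hpr
  have h1 : (R ⊔ Y).map (MulAut.conj w⁻¹).toMonoidHom ≤ part A p := by
    refine le_part h.nilA p ?_ (hRY.map _)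
    rintro _ ⟨u, hu, rfl⟩
    simpa [mul_assoc] using mem_map_conj.1 (hw hu)
  have h2 : Nat.card ↥(R ⊔ Y) ≤ Nat.card ↥R := by
    calc Nat.card ↥(R ⊔ Y) = Nat.card ↥((R ⊔ Y).map (MulAut.conj w⁻¹).toMonoidHom) :=
          (card_map_of_injective (MulAut.conj w⁻¹).injective).symm
      _ ≤ Nat.card ↥(part A p) := card_le_of_le h1
      _ = Nat.card ↥R := (card_map_of_injective (MulAut.conj x).injective).symm
  rw [eq_of_le_of_card_ge le_sup_left h2]
  exact le_sup_right

theorem part_map_le_normalizer (hA : Group.IsNilpotent A) {p r : ℕ} [Fact p.Prime] [Fact r.Prime]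
    (hne : r ≠ p) {x : G} {Y : Subgroup G} (hY : Y ≤ (part A p).map (MulAut.conj x).toMonoidHom) :
    (part A r).map (MulAut.conj x).toMonoidHom ≤ normalizer (Y : Set G) := by
  refine le_trans ?_ (centralizer_le_normalizer _)
  intro u hu y hy
  have h1 := commute_part hA hne (mem_map_conj.1 hu) (mem_map_conj.1 (hY hy))
  have h2 := h1.map (MulAut.conj x).toMonoidHom
  simp only [MulEquiv.coe_toMonoidHom, MulAut.conj_apply, mul_assoc] at h2
  simpa [Commute, SemiconjBy] using h2.symm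

/-- A nilpotent group is generated by its Sylow subgroups. -/
theorem le_of_part_le (A : Subgroup G) {S : Subgroup G}
    (hS : ∀ r : ℕ, r.Prime → r ∣ Nat.card A → part A r ≤ S) : A ≤ S := by
  have hd : Nat.card A ∣ Nat.card ↥(A ⊓ S) := by
    refine (Nat.dvd_iff_prime_pow_dvd_dvd _ _).2 fun r k hr hk => ?_
    rcases Nat.eq_zero_or_pos k with rfl | hk0
    · simp
    haveI := Fact.mk hr
    have hrA : r ∣ Nat.card A := (dvd_pow_self r hk0.ne').trans hk
    refine dvd_trans ?_ (card_dvd_of_le (le_inf (part_le A r) (hS r hr hrA)))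
    rw [part, Cfsg.Lib.Core.card_map_subtype, Sylow.card_eq_multiplicity]
    exact pow_dvd_pow r ((hr.pow_dvd_iff_le_factorization Nat.card_pos.ne').1 hk)
  exact inf_eq_left.1 (eq_of_le_of_card_ge inf_le_left (Nat.le_of_dvd Nat.card_pos hd))

theorem part_map_le_of_map_le {p : ℕ} {x : G} {T : Subgroup G}
    (h : A.map (MulAut.conj x).toMonoidHom ≤ T) :
    (part A p).map (MulAut.conj x).toMonoidHom ≤ T := (map_mono (part_le A p)).trans h

/-- The normaliser of a nontrivial `r`-subgroup of `A` contains all other Sylow subgroups of `A`. -/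
theorem Ctx.no_core (h : Ctx A B) {r : ℕ} [Fact r.Prime] {x y b : G}
    {U Y : Subgroup G} (hY0 : Y ≠ ⊥) (hY : Y ≤ (part A r).map (MulAut.conj x).toMonoidHom)
    (hU : (part A r).map (MulAut.conj x).toMonoidHom ≤ U) (hUn : U ≤ normalizer (Y : Set G))
    (hb : b ∈ Cen B) (hbU : y * b * y⁻¹ ∈ U) : b = 1 := by
  refine h.no_over (h.normalizer_ne_top hY0 ?_) (x := x) (y := y) hb ?_ (hUn hbU)
  · intro e
    refine h.primes_ne_top (S := A.map (MulAut.conj x).toMonoidHom)
      (fun p _ hd => by rwa [card_map_of_injective (MulAut.conj x).injective] at hd) ?_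
    exact eq_top_iff.2 (e ▸ hY.trans (map_mono (part_le A r)))
  · rw [map_le_iff_le_comap]
    refine le_of_part_le A fun t ht _ => ?_
    haveI := Fact.mk ht
    rw [← map_le_iff_le_comap]
    by_cases htr : t = r
    · subst htr
      exact hU.trans hUn
    · exact part_map_le_normalizer h.nilA htr hY

/-- A solvable Hall subgroup for the primes `r, s` containing conjugates of given subgroups. -/
theorem exists_pair_subgroup {L R S : Subgroup G} (hL : Group.IsSolvable L) {r s : ℕ}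
    [Fact r.Prime] [Fact s.Prime] (hR : IsPGroup r ↥R) (hS : IsPGroup s ↥S) (hRL : R ≤ L)
    (hSL : S ≤ L) :
    ∃ U : Subgroup G, U ≤ L ∧ Group.IsSolvable U ∧
      (∀ t : ℕ, t.Prime → t ∣ Nat.card U → t = r ∨ t = s) ∧
      (∃ x : G, R.map (MulAut.conj x).toMonoidHom ≤ U) ∧
      (∃ y : G, S.map (MulAut.conj y).toMonoidHom ≤ U) := by
  haveI := hL
  obtain ⟨T, hT⟩ := Cfsg.Lib.Solv.exists_isPiHall ({r, s} : Set ℕ) L
  refine ⟨T.map L.subtype, map_subtype_le _, Cfsg.Lib.Core.isSolvable_map inferInstance _,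
    fun t ht hd => ?_, ?_, ?_⟩
  · rw [Cfsg.Lib.Core.card_map_subtype] at hd
    simpa using hT.1 t ht hd
  all_goals
    first
    | obtain ⟨u, hu⟩ := Cfsg.Lib.Solv.le_conj_of_isPiHall hT (K := R.subgroupOf L)
        (fun t ht hd => by
          obtain ⟨k, hk⟩ := IsPGroup.iff_card.1 hR
          rw [Nat.card_congr (subgroupOfEquivOfLe hRL).toEquiv, hk] at hd
          exact Or.inl ((Nat.prime_dvd_prime_iff_eq ht Fact.out).1 (ht.dvd_of_dvd_pow hd)))
      refine ⟨((u⁻¹ : L) : G), ?_⟩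
      rintro _ ⟨a, ha, rfl⟩
      have := hu (show (⟨a, hRL ha⟩ : L) ∈ R.subgroupOf L from ha)
      rw [Cfsg.Lib.Core.mem_conj_smul] at this
      exact ⟨_, this, by simp [mul_assoc]⟩
    | obtain ⟨u, hu⟩ := Cfsg.Lib.Solv.le_conj_of_isPiHall hT (K := S.subgroupOf L)
        (fun t ht hd => by
          obtain ⟨k, hk⟩ := IsPGroup.iff_card.1 hS
          rw [Nat.card_congr (subgroupOfEquivOfLe hSL).toEquiv, hk] at hd
          exact Or.inr ((Nat.prime_dvd_prime_iff_eq ht Fact.out).1 (ht.dvd_of_dvd_pow hd)))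
      refine ⟨((u⁻¹ : L) : G), ?_⟩
      rintro _ ⟨a, ha, rfl⟩
      have := hu (show (⟨a, hSL ha⟩ : L) ∈ S.subgroupOf L from ha)
      rw [Cfsg.Lib.Core.mem_conj_smul] at this
      exact ⟨_, this, by simp [mul_assoc]⟩

/-- A minimal-prime core of a solvable subgroup, as a subgroup of `G`. -/
theorem exists_core {U : Subgroup G} (hU : Group.IsSolvable U) (hU0 : U ≠ ⊥) :
    ∃ (t : ℕ) (Y : Subgroup G), t.Prime ∧ t ∣ Nat.card U ∧ Y ≠ ⊥ ∧ IsPGroup t ↥Y ∧ Y ≤ U ∧
      U ≤ normalizer (Y : Set G) := by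
  haveI := hU
  haveI : Nontrivial U := (nontrivial_iff_ne_bot _).2 hU0
  obtain ⟨t, ht, hne⟩ := exists_pCore_ne_bot (U := U)
  haveI := Fact.mk ht
  have hpg := Cfsg.Lib.Core.pCore_isPGroup t U
  refine ⟨t, (pCore t U).map U.subtype, ht, ?_, fun e => hne
    ((map_eq_bot_iff_of_injective _ U.subtype_injective).1 e), hpg.map _, map_subtype_le _, ?_⟩
  · haveI : Nontrivial ↥(pCore t U) := (nontrivial_iff_ne_bot _).2 hne
    obtain ⟨k, hk, hc⟩ := hpg.nontrivial_iff_card.1 inferInstance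
    exact (hc ▸ dvd_pow_self t hk.ne').trans (card_subgroup_dvd_card _)
  · refine (normal_subgroupOf_iff_le_normalizer (map_subtype_le _)).1 ?_
    have e : ((pCore t U).map U.subtype).subgroupOf U = pCore t U :=
      comap_map_eq_self_of_injective U.subtype_injective _
    rw [e]
    infer_instance

theorem conj_ne_top {T : Subgroup G} (hT : T ≠ ⊤) (g : G) :
    T.map (MulAut.conj g).toMonoidHom ≠ ⊤ := fun e => hT (eq_top_iff.2 fun u _ => by
  have hu : g * u * g⁻¹ ∈ T.map (MulAut.conj g).toMonoidHom := by rw [e]; exact mem_top _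
  simpa [mul_assoc] using mem_map_conj.1 hu)

theorem Ctx.exists_solvable_pair (h : Ctx A B) {A₀ B₀ T : Subgroup G} (hA₀ : A₀ ≤ A)
    (hAn : A ≤ normalizer (A₀ : Set G)) (hB₀ : B₀ ≤ B) (hBn : B ≤ normalizer (B₀ : Set G))
    (h0 : A₀ ≠ ⊥) (hT : T ≠ ⊤) {x y : G} (hAT : A₀.map (MulAut.conj x).toMonoidHom ≤ T)
    (hBT : B₀.map (MulAut.conj y).toMonoidHom ≤ T) :
    ∃ L : Subgroup G, L ≠ ⊤ ∧ Group.IsSolvable L ∧ A₀ ≤ L ∧ B₀ ≤ L := by
  obtain ⟨g, hgx, hgy⟩ := h.exists_conj_pair x y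
  refine h.solvable_normalizer (T := T.map (MulAut.conj g).toMonoidHom) hA₀ hAn hB₀ hBn h0
    (conj_ne_top hT g) (fun a ha => mem_map_conj.2 (hAT (mem_map_conj.2 ?_)))
    (fun b hb => mem_map_conj.2 (hBT (mem_map_conj.2 ?_)))
  · have e : x⁻¹ * (g⁻¹ * a * g) * x = (g * x)⁻¹ * a * (g * x) := by group
    rw [e]
    exact (mem_normalizer_iff''.1 (hAn hgx) a).1 ha
  · have e : y⁻¹ * (g⁻¹ * b * g) * y = (g * y)⁻¹ * b * (g * y) := by group
    rw [e]
    exact (mem_normalizer_iff''.1 (hBn hgy) b).1 hb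

/-- No proper subgroup contains conjugates of full Sylow subgroups of both factors. -/
theorem Ctx.no_full (h : Ctx A B) {r s : ℕ} [Fact r.Prime] [Fact s.Prime] (hr : r ∣ Nat.card A)
    (hs : s ∣ Nat.card B) {T : Subgroup G} (hT : T ≠ ⊤) {x y : G}
    (hA : (part A r).map (MulAut.conj x).toMonoidHom ≤ T)
    (hB : (part B s).map (MulAut.conj y).toMonoidHom ≤ T) : False := by
  obtain ⟨L, hL, hLs, hAL, hBL⟩ := h.exists_solvable_pair (part_le A r) (le_normalizer_part h.nilA r)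
    (part_le B s) (le_normalizer_part h.nilB s) (part_ne_bot r hr) hT hA hB
  obtain ⟨U, hUL, hUs, hUp, ⟨u, hu⟩, v, hv⟩ := exists_pair_subgroup hLs (part_isPGroup A r)
    (part_isPGroup B s) hAL hBL
  have hU0 : U ≠ ⊥ := fun e => part_ne_bot r hr ((map_eq_bot_iff_of_injective _
    (MulAut.conj u).injective).1 (eq_bot_iff.2 (hu.trans e.le)))
  obtain ⟨t, Y, ht, htU, hY0, hY, hYU, hYn⟩ := exists_core hUs hU0
  haveI := Fact.mk ht
  rcases hUp t ht htU with e | e <;> subst e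
  · obtain ⟨b, hb, hbo, hbp⟩ := exists_central h.nilB s hs
    refine (Fact.out : s.Prime).ne_one ?_
    rw [← hbo, h.no_core (y := v) hY0 (h.le_part_conj hr hu hYU hYn hY) hu hYn hb
      (hv (mem_map.2 ⟨b, hbp, by simp⟩)), orderOf_one]
  · obtain ⟨a, ha, hao, hap⟩ := exists_central h.nilA r hr
    refine (Fact.out : r.Prime).ne_one ?_
    rw [← hao, h.symm.no_core (y := u) hY0 (h.symm.le_part_conj hs hv hYU hYn hY) hv hYn ha
      (hu (mem_map.2 ⟨a, hap, by simp⟩)), orderOf_one]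

/-- A central `q`-element of `B` and a full Sylow subgroup of `A` lie in no proper subgroup. -/
theorem Ctx.no_part_central (h : Ctx A B) {r q : ℕ} [Fact r.Prime] [Fact q.Prime]
    (hr : r ∣ Nat.card A) {b : G} (hb : b ∈ Cen B) (hbo : orderOf b = q)
    {T : Subgroup G} (hT : T ≠ ⊤) {x y : G}
    (hA : (part A r).map (MulAut.conj x).toMonoidHom ≤ T) (hbT : y * b * y⁻¹ ∈ T) : False := by
  have hq : q ∣ Nat.card B := by
    have hd := orderOf_dvd_natCard (⟨b, hb.1⟩ : B)
    rw [← Subgroup.orderOf_coe, hbo] at hd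
    exact hd
  have hbn : B ≤ normalizer (zpowers b : Set G) :=
    le_trans (fun β hβ => mem_centralizer_iff.2 fun w hw => by
      obtain ⟨i, rfl⟩ := mem_zpowers_iff.1 hw
      exact ((show Commute b β from (hb.2 β hβ).symm).zpow_left i).eq) (centralizer_le_normalizer _)
  have hbT' : (zpowers b).map (MulAut.conj y).toMonoidHom ≤ T := by
    rw [MonoidHom.map_zpowers, zpowers_le]
    simpa using hbT
  obtain ⟨L, hL, hLs, hAL, hBL⟩ := h.exists_solvable_pair (part_le A r) (le_normalizer_part h.nilA r)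
    (zpowers_le.2 hb.1) hbn (part_ne_bot r hr) hT hA hbT'
  have hbpg : IsPGroup q ↥(zpowers b) := IsPGroup.of_card (n := 1) (by
    rw [Nat.card_zpowers, hbo, pow_one])
  obtain ⟨U, hUL, hUs, hUp, ⟨u, hu⟩, v, hv⟩ :=
    exists_pair_subgroup hLs (part_isPGroup A r) hbpg hAL hBL
  have hU0 : U ≠ ⊥ := fun e => part_ne_bot r hr ((map_eq_bot_iff_of_injective _
    (MulAut.conj u).injective).1 (eq_bot_iff.2 (hu.trans e.le)))
  obtain ⟨t, Y, ht, htU, hY0, hY, hYU, hYn⟩ := exists_core hUs hU0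
  haveI := Fact.mk ht
  rcases hUp t ht htU with e | e <;> subst e
  · refine (Fact.out : q.Prime).ne_one ?_
    rw [← hbo, h.no_core (y := v) hY0 (h.le_part_conj hr hu hYU hYn hY) hu hYn hb
      (hv (mem_map.2 ⟨b, mem_zpowers b, by simp⟩)), orderOf_one]
  · have hYpr : Primes B Y := fun p hp hd => by
      obtain ⟨k, hk⟩ := IsPGroup.iff_card.1 hY
      rw [hk] at hd
      rwa [(Nat.prime_dvd_prime_iff_eq hp ht).1 (hp.dvd_of_dvd_pow hd)]
    obtain ⟨w, hw⟩ := h.symm.exists_le_conj hYpr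
    have hYB : Y ≤ (part B t).map (MulAut.conj w).toMonoidHom := fun a ha => by
      refine mem_map_conj.2 ?_
      have hle : Y.map (MulAut.conj w⁻¹).toMonoidHom ≤ part B t := by
        refine le_part h.nilB t ?_ (hY.map _)
        rintro _ ⟨c, hc, rfl⟩
        simpa [mul_assoc] using mem_map_conj.1 (hw hc)
      exact hle (mem_map.2 ⟨a, ha, by simp⟩)
    obtain ⟨s, hs, hst, hsd⟩ := h.symm.exists_other_prime t ht
    haveI := Fact.mk hs
    exact h.no_full hr hsd (h.normalizer_ne_top hY0 (h.symm.primes_ne_top hYpr)) (hu.trans hYn)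
      (part_map_le_normalizer h.nilB hst hYB)

theorem Ctx.no_central_prime (h : Ctx A B) {p q : ℕ} [Fact p.Prime] [Fact q.Prime] {z b : G}
    (hz : z ∈ Cen A) (hzo : orderOf z = p) (hb : b ∈ Cen B) (hbo : orderOf b = q)
    {T : Subgroup G} (hT : T ≠ ⊤) {x y : G} (hzT : x * z * x⁻¹ ∈ T) (hbT : y * b * y⁻¹ ∈ T) :
    False := by
  have hcz : ∀ {C : Subgroup G} {c : G}, c ∈ Cen C → C ≤ normalizer (zpowers c : Set G) :=
    fun {C c} hc => le_trans (fun β hβ => mem_centralizer_iff.2 fun w hw => by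
      obtain ⟨i, rfl⟩ := mem_zpowers_iff.1 hw
      exact ((show Commute c β from (hc.2 β hβ).symm).zpow_left i).eq) (centralizer_le_normalizer _)
  have hmap : ∀ {c w : G}, w * c * w⁻¹ ∈ T →
      (zpowers c).map (MulAut.conj w).toMonoidHom ≤ T := fun {c w} hc => by
    rw [MonoidHom.map_zpowers, zpowers_le]
    simpa using hc
  have hz1 : zpowers z ≠ ⊥ := by
    rw [Ne, zpowers_eq_bot]
    rintro rfl
    exact (Fact.out : p.Prime).ne_one (hzo ▸ orderOf_one)
  obtain ⟨L, hL, hLs, hzL, hbL⟩ := h.exists_solvable_pair (zpowers_le.2 hz.1) (hcz hz)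
    (zpowers_le.2 hb.1) (hcz hb) hz1 hT (hmap hzT) (hmap hbT)
  have hL0 : L ≠ ⊥ := fun e => hz1 (eq_bot_iff.2 (e ▸ hzL))
  obtain ⟨t, Y, ht, htL, hY0, hY, hYL, hYn⟩ := exists_core hLs hL0
  haveI := Fact.mk ht
  -- one side suffices
  have key : ∀ {A B : Subgroup G} (_ : Ctx A B) {b : G} {q : ℕ} [Fact q.Prime],
      t ∣ Nat.card A → b ∈ Cen B → orderOf b = q → b ∈ L → False := by
    intro A B h b q _ htA hb hbo hbL
    have hYpr : Primes A Y := fun p hp hd => by
      obtain ⟨k, hk⟩ := IsPGroup.iff_card.1 hY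
      rw [hk] at hd
      rwa [(Nat.prime_dvd_prime_iff_eq hp ht).1 (hp.dvd_of_dvd_pow hd)]
    obtain ⟨w, hw⟩ := h.exists_le_conj hYpr
    have hYA : Y ≤ (part A t).map (MulAut.conj w).toMonoidHom := fun a ha => by
      refine mem_map_conj.2 ?_
      have hle : Y.map (MulAut.conj w⁻¹).toMonoidHom ≤ part A t := by
        refine le_part h.nilA t ?_ (hY.map _)
        rintro _ ⟨c, hc, rfl⟩
        simpa [mul_assoc] using mem_map_conj.1 (hw hc)
      exact hle (mem_map.2 ⟨a, ha, by simp⟩)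
    obtain ⟨r, hr, hrt, hrd⟩ := h.exists_other_prime t ht
    haveI := Fact.mk hr
    exact h.no_part_central (y := 1) hrd hb hbo (h.normalizer_ne_top hY0 (h.primes_ne_top hYpr))
      (part_map_le_normalizer h.nilA hrt hYA) (by simpa using hYn hbL)
  rcases h.dvd_or ht (htL.trans (card_subgroup_dvd_card _)) with htA | htB
  · exact key h htA hb hbo (hbL (mem_zpowers b))
  · exact key h.symm htB hz hzo (hzL (mem_zpowers z))

/-- No proper subgroup contains nontrivial conjugates of central elements of both factors. -/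
theorem Ctx.no_central (h : Ctx A B) {z b : G} (hz : z ∈ Cen A) (hb : b ∈ Cen B)
    (hz1 : z ≠ 1) (hb1 : b ≠ 1) {T : Subgroup G} (hT : T ≠ ⊤) {x y : G}
    (hzT : x * z * x⁻¹ ∈ T) (hbT : y * b * y⁻¹ ∈ T) : False := by
  obtain ⟨p, hp, hpd⟩ := Nat.exists_prime_and_dvd (n := orderOf z) (by rwa [Ne, orderOf_eq_one_iff])
  obtain ⟨q, hq, hqd⟩ := Nat.exists_prime_and_dvd (n := orderOf b) (by rwa [Ne, orderOf_eq_one_iff])
  haveI := Fact.mk hp
  haveI := Fact.mk hq
  refine h.no_central_prime (p := p) (q := q) (pow_mem hz (orderOf z / p)) ?_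
    (pow_mem hb (orderOf b / q)) ?_ hT (x := x) (y := y) (by rw [← conj_pow]; exact pow_mem hzT _)
    (by rw [← conj_pow]; exact pow_mem hbT _)
  · exact orderOf_pow_orderOf_div (orderOf_pos z).ne' hpd
  · exact orderOf_pow_orderOf_div (orderOf_pos b).ne' hqd

/-- A nontrivial central element of `A` normalises no nontrivial subgroup of `B`-type order. -/
theorem Ctx.not_normalize (h : Ctx A B) {z : G} (hz : z ∈ Cen A) (hz1 : z ≠ 1) {S : Subgroup G}
    (hS : Primes B S) (hS0 : S ≠ ⊥) : z ∉ normalizer (S : Set G) := by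
  intro hzN
  obtain ⟨w, hw⟩ := h.symm.exists_le_conj hS
  obtain ⟨q, hq, hqd⟩ := Nat.exists_prime_and_dvd (n := Nat.card B) (by have := h.card_lt; omega)
  haveI := Fact.mk hq
  obtain ⟨b, hb, hbo, -⟩ := exists_central h.nilB q hqd
  refine h.no_central hz hb hz1 ?_ (h.normalizer_ne_top hS0 (h.symm.primes_ne_top hS))
    (x := 1) (y := w) (by simpa using hzN) (centralizer_le_normalizer _ fun s hs => ?_)
  · rintro rfl
    exact hq.ne_one (hbo ▸ orderOf_one)
  · have e := hb.2 _ (mem_map_conj.1 (hw hs))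
    calc s * (w * b * w⁻¹) = w * ((w⁻¹ * s * w) * b) * w⁻¹ := by group
      _ = w * (b * (w⁻¹ * s * w)) * w⁻¹ := by rw [e]
      _ = w * b * w⁻¹ * s := by group

end Cfsg.Lib.Solv.KW
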