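import Cfsg.Agent.Lib.Solv.KW.Basic
import Cfsg.Agent.S0199
import Cfsg.Agent.S0117
import Cfsg.Agent.Lib.Coprime.Action
import Cfsg.Agent.Lib.Local.CNSolvable
import Cfsg.Agent.Lib.Local.GlaubermanElementary
import Cfsg.Agent.Lib.Local.GlaubermanComplement
import Cfsg.Agent.Lib.Thompson.FixedPointFree

/-!
The minimal counterexample to Wielandt's theorem does not exist: the even case by Baer–Suzuki,
the odd case by the Glauberman–Thompson theorem and a count of elements.
-/

set_option autoImplicit false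

namespace Cfsg.Lib.Solv.KW

open Subgroup Cfsg

variable {G : Type*} [Group G] [Finite G] {A B : Subgroup G}

theorem primes_zpowers {x : G} {p : ℕ} (hp : orderOf x = p) [hpp : Fact p.Prime] {C : Subgroup G}
    (hd : p ∣ Nat.card C) : Primes C (zpowers x) := fun q hq hqd => by
  rw [Nat.card_zpowers, hp] at hqd
  rwa [(Nat.prime_dvd_prime_iff_eq hq hpp.out).1 hqd]

theorem two_not_dvd (h : Ctx A B) : ¬ 2 ∣ Nat.card A := by
  intro h2
  haveI : Fact (Nat.Prime 2) := ⟨Nat.prime_two⟩
  obtain ⟨z, hz, hzo, -⟩ := exists_central h.nilA 2 h2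
  have hz1 : z ≠ 1 := by rintro rfl; simp at hzo
  have hzz : z * z = 1 := by rw [← pow_two, ← hzo, pow_orderOf_eq_one]
  have hzi : z⁻¹ = z := inv_eq_of_mul_eq_one_right hzz
  suffices key : ∀ g : G, IsPGroup 2 ↥(zpowers z ⊔ (zpowers z).map (MulAut.conj g).toMonoidHom) by
    obtain ⟨N, hN, hN2, hzN⟩ := Cfsg.Agent.S0199.result (zpowers z)
      (IsPGroup.of_card (n := 1) (by rw [Nat.card_zpowers, hzo, pow_one])) key
    rcases h.normal_cases hN with e | e
    · exact hz1 (by simpa [e] using hzN (mem_zpowers z))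
    · subst e
      haveI := (hN2.of_equiv topEquiv).isNilpotent
      exact h.nsolv inferInstance
  intro g
  set z' := g * z * g⁻¹ with hz'
  have hz'o : orderOf z' = 2 := by
    rw [hz', show g * z * g⁻¹ = MulAut.conj g z from rfl,
      MulEquiv.orderOf_eq, hzo]
  have hz'i : z'⁻¹ = z' := inv_eq_of_mul_eq_one_right (by
    rw [← pow_two, ← hz'o, pow_orderOf_eq_one])
  set y := z * z' with hy
  have hinv : z * y * z⁻¹ = y⁻¹ := by
    calc z * y * z⁻¹ = (z * z) * z' * z⁻¹ := by rw [hy]; group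
      _ = z' * z⁻¹ := by rw [hzz, one_mul]
      _ = z'⁻¹ * z⁻¹ := by rw [hz'i]
      _ = y⁻¹ := (mul_inv_rev z z').symm
  have hzn : ∀ k : ℕ, z ∈ normalizer (zpowers (y ^ k) : Set G) := fun k => by
    have hc : z * y ^ k * z⁻¹ = (y ^ k)⁻¹ := by rw [← conj_pow, hinv, inv_pow]
    refine mem_normalizer_fintype fun w hw => ?_
    obtain ⟨i, rfl⟩ := mem_zpowers_iff.1 hw
    show z * (y ^ k) ^ i * z⁻¹ ∈ zpowers (y ^ k)
    rw [← conj_zpow, hc, inv_zpow]
    exact inv_mem (zpow_mem (mem_zpowers _) i)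
  have hyA : Primes A (zpowers y) := fun q hq hd => by
    rw [Nat.card_zpowers] at hd
    refine (h.dvd_or hq (hd.trans (orderOf_dvd_natCard y))).resolve_right fun hqB => ?_
    haveI := Fact.mk hq
    have ho := orderOf_pow_orderOf_div (orderOf_pos y).ne' hd
    refine h.not_normalize hz hz1 (primes_zpowers ho hqB) ?_ (hzn _)
    rw [Ne, zpowers_eq_bot]
    intro e
    rw [e, orderOf_one] at ho
    exact hq.ne_one ho.symm
  set D := zpowers z ⊔ zpowers y with hD
  have hzy : zpowers z ≤ normalizer (zpowers y : Set G) :=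
    zpowers_le.2 (by simpa using hzn 1)
  have hDA : Primes A D := fun q hq hd => by
    have hyD : ((zpowers y).subgroupOf D).Normal :=
      (normal_subgroupOf_iff_le_normalizer le_sup_right).2 (sup_le hzy le_normalizer)
    haveI := hyD
    have hdd := Cfsg.Lib.Core.card_sup_dvd_mul ((zpowers z).subgroupOf D) ((zpowers y).subgroupOf D)
    rw [← subgroupOf_sup (le_sup_left) (le_sup_right),
      show (zpowers z ⊔ zpowers y).subgroupOf D = ⊤ from subgroupOf_eq_top.2 le_rfl, Subgroup.card_top,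
      Nat.card_congr (subgroupOfEquivOfLe (le_sup_left : zpowers z ≤ D)).toEquiv,
      Nat.card_congr (subgroupOfEquivOfLe (le_sup_right : zpowers y ≤ D)).toEquiv,
      Nat.card_zpowers, hzo] at hdd
    rcases hq.dvd_mul.1 (hd.trans hdd) with h' | h'
    · rwa [(Nat.prime_dvd_prime_iff_eq hq Nat.prime_two).1 h']
    · exact hyA q hq h'
  obtain ⟨w, hw⟩ := h.exists_le_conj hDA
  have hzD : z ∈ D := le_sup_left (b := zpowers y) (mem_zpowers z)
  have hz'D : z' ∈ D := by
    have : z' = z * y := by rw [hy, ← mul_assoc, hzz, one_mul]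
    rw [this]
    exact mul_mem hzD (le_sup_right (a := zpowers z) (mem_zpowers y))
  have hin : ∀ u ∈ D, orderOf u = 2 → u ∈ (part A 2).map (MulAut.conj w).toMonoidHom := fun u hu ho =>
    mem_map_conj.2 (mem_part h.nilA 2 (mem_map_conj.1 (hw hu)) ⟨1, by
      rw [pow_one, ← ho, show w⁻¹ * u * w = MulAut.conj w⁻¹ u by simp]
      exact orderOf_injective (MulAut.conj w⁻¹).toMonoidHom (MulAut.conj w⁻¹).injective u⟩)
  refine ((part_isPGroup A 2).map (MulAut.conj w).toMonoidHom).to_le (sup_le ?_ ?_)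
  · exact zpowers_le.2 (hin z hzD hzo)
  · rw [MonoidHom.map_zpowers, zpowers_le]
    exact hin z' hz'D hz'o

theorem Ctx.part_ne_two (h : Ctx A B) {r : ℕ} (hr : r ∣ Nat.card A) : r ≠ 2 := by
  rintro rfl
  exact two_not_dvd h hr

theorem Ctx.Cen_ne_bot (h : Ctx A B) : ∃ z ∈ Cen A, z ≠ 1 := by
  obtain ⟨p, hp, hpd⟩ := Nat.exists_prime_and_dvd (n := Nat.card A) (by have := h.card_lt; omega)
  haveI := Fact.mk hp
  obtain ⟨z, hz, hzo, -⟩ := exists_central h.nilA p hpd
  exact ⟨z, hz, fun e => hp.ne_one (by rw [← hzo, e, orderOf_one])⟩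

theorem Ctx.A_ne_top (h : Ctx A B) : A ≠ ⊤ := h.primes_ne_top fun _ _ hd => hd

theorem Ctx.normalizer_A_ne_top (h : Ctx A B) : normalizer (A : Set G) ≠ ⊤ :=
  h.normalizer_ne_top h.A_ne_bot h.A_ne_top

theorem card_subProd (hcop : (Nat.card A).Coprime (Nat.card B)) {T : Subgroup G}
    (h : SubProd T A B) : ((T ⊓ A).subgroupOf T).index = Nat.card ↥(T ⊓ B) := by
  have hp : IsProd ((T ⊓ A).subgroupOf T) ((T ⊓ B).subgroupOf T) := fun g => by
    obtain ⟨a, ha, b, hb, e⟩ := h g g.2
    exact ⟨⟨a, ha.1⟩, ha, ⟨b, hb.1⟩, hb, Subtype.ext e⟩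
  have e1 := Nat.card_congr (subgroupOfEquivOfLe (inf_le_left : T ⊓ A ≤ T)).toEquiv
  have e2 := Nat.card_congr (subgroupOfEquivOfLe (inf_le_left : T ⊓ B ≤ T)).toEquiv
  rw [(card_prod ?_ hp).2, e2]
  rw [e1, e2]
  exact Nat.Coprime.coprime_dvd_right (card_dvd_of_le inf_le_right)
    (Nat.Coprime.coprime_dvd_left (card_dvd_of_le inf_le_right) hcop)

/-- In a proper solvable subgroup `T ⊇ Z(A)` the Hall subgroup `T ∩ A` is normal. -/
theorem Ctx.inf_normal (h : Ctx A B) {T : Subgroup G} (hTs : Group.IsSolvable T)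
    (hzT : Cen A ≤ T)
    (hHall : (Nat.card A).Coprime ((T ⊓ A).subgroupOf T).index) :
    T ≤ normalizer ((T ⊓ A : Subgroup G) : Set G) := by
  classical
  set H := (T ⊓ A).subgroupOf T with hH
  have hHcard : Nat.card H = Nat.card ↥(T ⊓ A) :=
    Nat.card_congr (subgroupOfEquivOfLe inf_le_left).toEquiv
  -- normal subgroups of `A`-type lie in `H`
  have hle : ∀ S : Subgroup T, S.Normal → (∀ p : ℕ, p.Prime → p ∣ Nat.card S → p ∣ Nat.card A) →
      S ≤ H := by
    intro S hS hSp
    haveI := hS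
    have hd := Cfsg.Lib.Core.card_sup_dvd_mul H S
    have hc : (Nat.card ↥(H ⊔ S)).Coprime H.index := Nat.coprime_of_dvd fun p hp h1 h2 => by
      have hpA : p ∣ Nat.card A := by
        rcases hp.dvd_mul.1 (h1.trans hd) with h' | h'
        · exact (hHcard ▸ h').trans (card_dvd_of_le inf_le_right)
        · exact hSp p hp h'
      exact hp.not_dvd_one (hHall ▸ Nat.dvd_gcd hpA h2)
    have h2 : Nat.card ↥(H ⊔ S) ∣ Nat.card H :=
      hc.dvd_of_dvd_mul_right (by rw [H.card_mul_index]; exact card_subgroup_dvd_card _)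
    rw [eq_of_le_of_card_ge (le_sup_left : H ≤ H ⊔ S) (Nat.le_of_dvd Nat.card_pos h2)]
    exact le_sup_right
  -- no core for a prime of `B`
  have hcore : ∀ t : ℕ, t.Prime → pCore t T ≠ ⊥ → t ∣ Nat.card A := by
    intro t ht hne
    haveI := Fact.mk ht
    obtain ⟨k, hk⟩ := IsPGroup.iff_card.1 (Cfsg.Lib.Core.pCore_isPGroup t T)
    have hk0 : k ≠ 0 := fun e => hne (eq_bot_of_card_eq _ (by rw [hk, e, pow_zero]))
    have htG : t ∣ Nat.card G :=
      ((hk ▸ dvd_pow_self t hk0).trans (card_subgroup_dvd_card _)).trans (card_subgroup_dvd_card _)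
    refine (h.dvd_or ht htG).resolve_right fun htB => ?_
    obtain ⟨z, hz, hz1⟩ := h.Cen_ne_bot
    refine h.not_normalize hz hz1 (S := (pCore t T).map T.subtype) (fun q hq hqd => ?_)
      (fun e => hne ((map_eq_bot_iff_of_injective _ T.subtype_injective).1 e)) ?_
    · rw [Cfsg.Lib.Core.card_map_subtype, hk] at hqd
      rwa [(Nat.prime_dvd_prime_iff_eq hq ht).1 (hq.dvd_of_dvd_pow hqd)]
    · refine (normal_subgroupOf_iff_le_normalizer (map_subtype_le _)).1 ?_ (hzT hz)
      rw [show ((pCore t T).map T.subtype).subgroupOf T = pCore t T from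
        comap_map_eq_self_of_injective T.subtype_injective _]
      infer_instance
  have hpc : ∀ t : ℕ, t.Prime → pCore t T ≤ H := by
    intro t ht
    haveI := Fact.mk ht
    by_cases hne : pCore t T = ⊥
    · rw [hne]; exact bot_le
    refine hle _ inferInstance fun p hp hd => ?_
    obtain ⟨k, hk⟩ := IsPGroup.iff_card.1 (Cfsg.Lib.Core.pCore_isPGroup t T)
    rw [hk] at hd
    rw [(Nat.prime_dvd_prime_iff_eq hp ht).1 (hp.dvd_of_dvd_pow hd)]
    exact hcore t ht hne
  have hF : fittingSubgroup T ≤ H := by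
    rw [Cfsg.Lib.Core.fittingSubgroup_eq_iSup_pCore]
    exact iSup_le fun t => hpc t t.2
  haveI := hTs
  have hzF : ∀ z (hz : z ∈ Cen A), (⟨z, hzT hz⟩ : T) ∈ fittingSubgroup T := fun z hz =>
    Cfsg.Lib.Core.centralizer_fitting_le_of_isSolvable fun f hf => Subtype.ext (hz.2 (f : G) (hF hf).2)
  -- the subgroup generated by the normal subgroups `C r`
  let C : ℕ → Subgroup T := fun r =>
    centralizer (((⨆ t : {t : ℕ // t.Prime ∧ t ≠ r}, pCore (t : ℕ) T) : Subgroup T) : Set T)
  have hCn : ∀ r, (C r).Normal := fun r => by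
    haveI : (⨆ t : {t : ℕ // t.Prime ∧ t ≠ r}, pCore (t : ℕ) T).Normal := by
      refine ⟨fun x hx g => ?_⟩
      refine iSup_induction (S := fun t : {t : ℕ // t.Prime ∧ t ≠ r} => pCore (t : ℕ) T)
        (C := fun x => g * x * g⁻¹ ∈ ⨆ t : {t : ℕ // t.Prime ∧ t ≠ r}, pCore (t : ℕ) T) hx
        (fun t y hy => mem_iSup_of_mem t ((inferInstance : (pCore (t : ℕ) T).Normal).conj_mem y hy g))
        (by simp) fun a b ha hb => by
          have := mul_mem ha hb
          simpa [mul_assoc] using this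
    infer_instance
  have hCle : ∀ r, r.Prime → C r ≤ H := fun r hr => by
    refine hle _ (hCn r) fun q hq hqd => ?_
    haveI := Fact.mk hq
    obtain ⟨s, hs⟩ := exists_prime_orderOf_dvd_card' q hqd
    have hso : orderOf ((s : T) : G) = q := by
      rw [Subgroup.orderOf_coe, Subgroup.orderOf_coe, hs]
    refine (h.dvd_or hq (hso ▸ orderOf_dvd_natCard _)).resolve_right fun hqB => ?_
    obtain ⟨t, ht, htr, htd⟩ := h.exists_other_prime r hr
    haveI := Fact.mk ht
    obtain ⟨z, hz, hzo, -⟩ := exists_central h.nilA t htd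
    have hz1 : z ≠ 1 := fun e => ht.ne_one (by rw [← hzo, e, orderOf_one])
    have hzt : (⟨z, hzT hz⟩ : T) ∈ pCore t T := by
      have hF' := hzF z hz
      haveI := Cfsg.Lib.Core.fittingSubgroup_isNilpotent T
      have hF'' : (⟨z, hzT hz⟩ : T) ∈ part (fittingSubgroup T) t :=
        mem_part inferInstance t hF' ⟨1, by rw [pow_one, ← hzo, ← Subgroup.orderOf_coe]⟩
      refine Cfsg.Lib.Core.le_pCore' ?_ (part_isPGroup _ t) hF''
      refine normalizer_eq_top_iff.1 (top_unique ?_)
      intro g _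
      refine mem_normalizer_fintype fun u hu => ?_
      refine mem_part inferInstance t
        ((Cfsg.Lib.Core.fittingSubgroup_normal' T).conj_mem u (part_le _ t hu) g) ?_
      obtain ⟨k, hk⟩ := IsPGroup.iff_orderOf.1 (part_isPGroup _ t) ⟨u, hu⟩
      refine ⟨k, ?_⟩
      rw [show g * u * g⁻¹ = MulAut.conj g u from rfl, MulEquiv.orderOf_eq]
      exact (Subgroup.orderOf_coe (⟨u, hu⟩ : ↥(part (fittingSubgroup T) t))).trans hk
    have hc : Commute (⟨z, hzT hz⟩ : T) (s : T) :=
      s.2 _ (mem_iSup_of_mem (⟨t, ht, htr⟩ : {t : ℕ // t.Prime ∧ t ≠ r}) hzt)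
    refine h.not_normalize hz hz1 (primes_zpowers hso hqB) ?_ ?_
    · rw [Ne, zpowers_eq_bot]
      intro e
      exact hq.ne_one (by rw [← hso, e, orderOf_one])
    · refine centralizer_le_normalizer _ fun w hw => ?_
      obtain ⟨i, rfl⟩ := mem_zpowers_iff.1 hw
      exact ((hc.map T.subtype).symm.zpow_left i).eq
  -- hence `H` is normal
  set K : Subgroup T := ⨆ r : {r : ℕ // r.Prime}, C r with hK
  have hKH : K ≤ H := iSup_le fun r => hCle r r.2
  have hHK : H ≤ K := by
    refine le_of_part_le H fun r hr _ => ?_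
    haveI := Fact.mk hr
    refine le_trans ?_ (le_iSup (fun r : {r : ℕ // r.Prime} => C r) ⟨r, hr⟩)
    intro x hx
    show x ∈ centralizer _
    rw [mem_centralizer_iff]
    intro y hy
    refine iSup_induction (S := fun t : {t : ℕ // t.Prime ∧ t ≠ r} => pCore (t : ℕ) T)
      (C := fun y => y * x = x * y) hy (fun t y hy => ?_) (by simp) fun a b ha hb => ?_
    · haveI := Fact.mk t.2.1
      have hxA : (x : G) ∈ part A r := by
        obtain ⟨k, hk⟩ := IsPGroup.iff_orderOf.1 (part_isPGroup H r) ⟨x, hx⟩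
        exact mem_part h.nilA r ((part_le H r hx : x ∈ H) : (x : G) ∈ T ⊓ A).2
          ⟨k, (Subgroup.orderOf_coe x).trans ((Subgroup.orderOf_coe _).trans hk)⟩
      have hyA : (y : G) ∈ part A t := by
        obtain ⟨k, hk⟩ := IsPGroup.iff_orderOf.1 (Cfsg.Lib.Core.pCore_isPGroup (t : ℕ) T) ⟨y, hy⟩
        exact mem_part h.nilA t ((hpc t t.2.1 hy : y ∈ H) : (y : G) ∈ T ⊓ A).2
          ⟨k, (Subgroup.orderOf_coe y).trans ((Subgroup.orderOf_coe _).trans hk)⟩
      exact Subtype.ext (commute_part h.nilA t.2.2 hyA hxA).eq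
    · exact (Commute.mul_left (ha : Commute a x) (hb : Commute b x)).eq
  have e : K = H := le_antisymm hKH hHK
  refine (normal_subgroupOf_iff_le_normalizer inf_le_left).1 ?_
  rw [← hH, ← e]
  refine ⟨fun x hx g => ?_⟩
  refine iSup_induction (S := fun r : {r : ℕ // r.Prime} => C r)
    (C := fun x => g * x * g⁻¹ ∈ K) hx
    (fun r y hy => mem_iSup_of_mem r ((hCn r).conj_mem y hy g)) (by simp) fun a b ha hb => by
      have := mul_mem ha hb
      simpa [mul_assoc] using this

/-- The normaliser of `A` is the only maximal subgroup containing it. -/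
theorem Ctx.over_le (h : Ctx A B) {T : Subgroup G} (hT : T ≠ ⊤) (hA : A ≤ T) :
    T ≤ normalizer (A : Set G) := by
  have hp : SubProd T A B := fun g hg => by
    obtain ⟨a, ha, b, hb, rfl⟩ := h.prod g
    refine ⟨a, ⟨hA ha, ha⟩, b, ⟨?_, hb⟩, rfl⟩
    simpa using mul_mem (inv_mem (hA ha)) hg
  have := h.inf_normal (h.ih T hT hp) ((Cen_le A).trans hA) (by
    rw [card_subProd h.cop hp]
    exact Nat.Coprime.coprime_dvd_right (card_dvd_of_le inf_le_right) h.cop)
  rwa [inf_eq_right.2 hA] at this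

theorem Ctx.centralizer_ne_top (h : Ctx A B) {x : G} (hx : x ≠ 1) :
    centralizer ({x} : Set G) ≠ ⊤ := by
  intro e
  have hxc : x ∈ center G := mem_center_iff.2 fun g =>
    mem_centralizer_singleton_iff.1 (e ▸ mem_top g)
  rcases h.normal_cases (inferInstance : (center G).Normal) with e' | e'
  · rw [e', mem_bot] at hxc; exact hx hxc
  · refine h.nsolv (Group.isSolvable_of_comm fun a b => ?_)
    exact (mem_center_iff.1 (e' ▸ mem_top b : b ∈ center G) a)

/-- Centralisers of elements of `A` normalising `B` lie in the normaliser of `A`. -/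
theorem Ctx.centralizer_le_of_normalizer (h : Ctx A B) {d : G} (hdA : d ∈ A)
    (hdK : d ∈ normalizer (B : Set G)) (hd1 : d ≠ 1) :
    centralizer ({d} : Set G) ≤ normalizer (A : Set G) := by
  obtain ⟨p, hp, hpd⟩ := Nat.exists_prime_and_dvd (n := orderOf d) (by rwa [Ne, orderOf_eq_one_iff])
  haveI := Fact.mk hp
  set e := d ^ (orderOf d / p) with he
  have heo : orderOf e = p := orderOf_pow_orderOf_div (orderOf_pos d).ne' hpd
  have he1 : e ≠ 1 := fun hh => hp.ne_one (by rw [← heo, hh, orderOf_one])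
  refine le_trans (b := centralizer ({e} : Set G)) (fun g hg => mem_centralizer_singleton_iff.2
    ((show Commute g d from mem_centralizer_singleton_iff.1 hg).pow_right _).eq) ?_
  set T := centralizer ({e} : Set G)
  have hTt : T ≠ ⊤ := h.centralizer_ne_top he1
  have heA : e ∈ A := pow_mem hdA _
  have hp' : SubProd T A B := fun g hg => by
    obtain ⟨a, ha, b, hb, rfl⟩ := h.prod g
    have hk := mem_centralizer_singleton_iff.1 hg
    have hu : e⁻¹ * (a⁻¹ * e * a) = e⁻¹ * b * e * b⁻¹ := by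
      calc e⁻¹ * (a⁻¹ * e * a) = e⁻¹ * a⁻¹ * (e * (a * b)) * b⁻¹ := by group
        _ = e⁻¹ * a⁻¹ * ((a * b) * e) * b⁻¹ := by rw [hk]
        _ = e⁻¹ * b * e * b⁻¹ := by group
    have hB' : e⁻¹ * b * e * b⁻¹ ∈ B :=
      mul_mem ((mem_normalizer_iff''.1 (pow_mem hdK _) b).1 hb) (inv_mem hb)
    have hA' : e⁻¹ * (a⁻¹ * e * a) ∈ A :=
      mul_mem (inv_mem heA) (mul_mem (mul_mem (inv_mem ha) heA) ha)
    have h1 : e⁻¹ * (a⁻¹ * e * a) = 1 := by
      have hb0 : e⁻¹ * (a⁻¹ * e * a) ∈ A ⊓ B := ⟨hA', hu ▸ hB'⟩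
      rwa [inf_eq_bot_of_coprime h.cop, mem_bot] at hb0
    have hae : a ∈ T := mem_centralizer_singleton_iff.2 (by
      calc a * e = a * (e * 1) := by group
        _ = a * (e * (e⁻¹ * (a⁻¹ * e * a))) := by rw [h1]
        _ = e * a := by group)
    refine ⟨a, ⟨hae, ha⟩, b, ⟨?_, hb⟩, rfl⟩
    simpa using mul_mem (inv_mem hae) hg
  have hCT : Cen A ≤ T := fun z hz => mem_centralizer_singleton_iff.2 (hz.2 e heA).symm
  have hn := h.inf_normal (h.ih T hTt hp') hCT (by
    rw [card_subProd h.cop hp']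
    exact Nat.Coprime.coprime_dvd_right (card_dvd_of_le inf_le_right) h.cop)
  obtain ⟨r, hr, hrp, hrA⟩ := h.exists_other_prime p hp
  haveI := Fact.mk hr
  have heP : e ∈ part A p := mem_part h.nilA p heA ⟨1, by rw [heo, pow_one]⟩
  have hRT : part A r ≤ T := fun u hu =>
    mem_centralizer_singleton_iff.2 (commute_part h.nilA hrp hu heP).eq
  refine le_trans (fun g hg => ?_) (h.over_le (h.normalizer_ne_top (part_ne_bot r hrA)
    (h.primes_ne_top fun q hq hd => hd.trans (card_dvd_of_le (part_le A r))))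
    (le_normalizer_part h.nilA r))
  refine mem_normalizer_fintype fun u hu => ?_
  refine mem_part h.nilA r ((mem_normalizer_iff.1 (hn hg) u).1 ⟨hRT hu, part_le A r hu⟩).2 ?_
  obtain ⟨k, hk⟩ := IsPGroup.iff_orderOf.1 (part_isPGroup A r) ⟨u, hu⟩
  refine ⟨k, ?_⟩
  rw [← hk, show g * u * g⁻¹ = MulAut.conj g u from rfl,
    MulEquiv.orderOf_eq, ← Subgroup.orderOf_coe]

theorem normalizer_le_normalizer_centerThompsonOf {p : ℕ} (Q : Subgroup G) :
    normalizer (Q : Set G) ≤ normalizer (centerThompsonOf p Q : Set G) := fun g hg => by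
  refine mem_normalizer_fintype fun x hx => ?_
  have hQ : Q.map (MulAut.conj g).toMonoidHom = Q := Cfsg.Lib.Core.map_conj_eq_of_mem_normalizer hg
  have h := Cfsg.Lib.Local.GlaubermanZJ.map_centerThompsonOf (p := p) (MulAut.conj g).toMonoidHom
    (MulAut.conj g).injective Q
  rw [hQ] at h
  exact h.le ⟨x, hx, rfl⟩

/-- The centralisers of the nontrivial elements of `A` lie in the normaliser of `A`. -/
theorem Ctx.centralizer_le (h : Ctx A B) {x : G} (hxA : x ∈ A) (hx1 : x ≠ 1) :
    centralizer ({x} : Set G) ≤ normalizer (A : Set G) := by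
  set M := normalizer (A : Set G) with hM
  obtain ⟨p, hp, hpd⟩ := Nat.exists_prime_and_dvd (n := orderOf x) (by rwa [Ne, orderOf_eq_one_iff])
  haveI := Fact.mk hp
  set e := x ^ (orderOf x / p) with he
  have heo : orderOf e = p := orderOf_pow_orderOf_div (orderOf_pos x).ne' hpd
  have he1 : e ≠ 1 := fun hh => hp.ne_one (by rw [← heo, hh, orderOf_one])
  refine le_trans (b := centralizer ({e} : Set G)) (fun g hg => mem_centralizer_singleton_iff.2
    ((show Commute g x from mem_centralizer_singleton_iff.1 hg).pow_right _).eq) ?_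
  have heA : e ∈ A := pow_mem hxA _
  set X := centralizer ({e} : Set G) with hX
  by_cases hs : ∃ t ∈ X ⊓ M, ∃ q : ℕ, q.Prime ∧ q ∣ Nat.card B ∧ orderOf t = q
  · obtain ⟨t, ⟨htX, htM⟩, q, hq, hqB, hto⟩ := hs
    haveI := Fact.mk hq
    obtain ⟨w, hw⟩ := h.symm.exists_le_conj (primes_zpowers hto hqB)
    obtain ⟨a, ha, b, hb, rfl⟩ := h.prod w
    set s := a⁻¹ * t * a with hs'
    have hsB : s ∈ B := by
      have := mem_map_conj.1 (hw (mem_zpowers t))
      have h2 := mul_mem (mul_mem hb this) (inv_mem hb)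
      rw [hs']
      convert h2 using 1
      group
    have haM : a ∈ M := le_normalizer ha
    have hs1 : s ≠ 1 := fun hh => hq.ne_one (by
      rw [← hto, show t = a * s * a⁻¹ by rw [hs']; group, hh]; simp)
    have hc := h.symm.centralizer_le_of_normalizer hsB
      (mul_mem (mul_mem (inv_mem haM) htM) haM) hs1
    set e' := a⁻¹ * e * a with he'
    have he'A : e' ∈ A := mul_mem (mul_mem (inv_mem ha) heA) ha
    have hte := mem_centralizer_singleton_iff.1 htX
    have he'K : e' ∈ normalizer (B : Set G) := hc (mem_centralizer_singleton_iff.2 (by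
      calc e' * s = a⁻¹ * (e * t) * a := by rw [he', hs']; group
        _ = a⁻¹ * (t * e) * a := by rw [hte]
        _ = s * e' := by rw [he', hs']; group))
    have he'1 : e' ≠ 1 := fun hh => he1 (by
      rw [show e = a * e' * a⁻¹ by rw [he']; group, hh]; simp)
    intro g hg
    have hg' : a⁻¹ * g * a ∈ M := h.centralizer_le_of_normalizer he'A he'K he'1
      (mem_centralizer_singleton_iff.2 (by
        calc a⁻¹ * g * a * e' = a⁻¹ * (g * e) * a := by rw [he']; group
          _ = a⁻¹ * (e * g) * a := by rw [mem_centralizer_singleton_iff.1 hg]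
          _ = e' * (a⁻¹ * g * a) := by rw [he']; group))
    have := mul_mem (mul_mem haM hg') (inv_mem haM)
    rwa [show a * (a⁻¹ * g * a) * a⁻¹ = g by group] at this
  push_neg at hs
  obtain ⟨r, hr, hrp, hrA⟩ := h.exists_other_prime p hp
  haveI := Fact.mk hr
  set R := part A r with hR
  have heP : e ∈ part A p := mem_part h.nilA p heA ⟨1, by rw [heo, pow_one]⟩
  have hRX : R ≤ X := fun u hu =>
    mem_centralizer_singleton_iff.2 (commute_part h.nilA hrp hu heP).eq
  have hXM : Primes A (X ⊓ M) := fun q hq hd => by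
    haveI := Fact.mk hq
    obtain ⟨t, ht⟩ := exists_prime_orderOf_dvd_card' q hd
    refine (h.dvd_or hq (hd.trans (card_subgroup_dvd_card _))).resolve_right fun hqB => ?_
    exact hs t t.2 q hq hqB (by rw [Subgroup.orderOf_coe, ht])
  -- the Sylow subgroup of `X`
  have hRidx : ¬ r ∣ (R.subgroupOf X).index := by
    intro hd
    have h1 : (R.subgroupOf X).index ∣ R.index := by
      rw [← relIndex_mul_index hRX]; exact dvd_mul_right _ _
    have h2 : R.index = R.relIndex A * A.index := (relIndex_mul_index (part_le A r)).symm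
    have h3 : R.relIndex A = ((Classical.arbitrary (Sylow r A)) : Subgroup A).index := by
      rw [hR, part, relIndex, subgroupOf, comap_map_eq_self_of_injective A.subtype_injective]
    rw [h2, h3, (card_prod h.cop h.prod).2] at h1
    rcases hr.dvd_mul.1 (hd.trans h1) with h' | h'
    · exact (Classical.arbitrary (Sylow r A)).not_dvd_index h'
    · exact h.not_dvd hr hrA h'
  have hRX' : IsPGroup r ↥(R.subgroupOf X) := (part_isPGroup A r).comap_subtype
  let P : Sylow r X := hRX'.toSylow hRidx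
  have hPc : ((P : Subgroup X)).map X.subtype = R := map_subgroupOf_eq_of_le hRX
  have hJ : (centerThompsonOf r (P : Subgroup X)).map X.subtype = centerThompsonOf r R := by
    rw [Cfsg.Lib.Local.GlaubermanZJ.map_centerThompsonOf _ X.subtype_injective, hPc]
  have hJ0 : centerThompsonOf r R ≠ ⊥ := Cfsg.Lib.Local.GlaubermanZJ.centerThompsonOf_ne_bot
    (part_isPGroup A r) (part_ne_bot r hrA)
  have hJle : centerThompsonOf r R ≤ A :=
    (inf_le_left.trans (map_subtype_le _)).trans (part_le A r)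
  have hJM : normalizer (centerThompsonOf r R : Set G) ≤ M :=
    h.over_le (h.normalizer_ne_top hJ0 (h.primes_ne_top fun q hq hd =>
      hd.trans (card_dvd_of_le hJle)))
      ((le_normalizer_part h.nilA r).trans (normalizer_le_normalizer_centerThompsonOf R))
  set NJ := normalizer (centerThompsonOf r (P : Subgroup X) : Set X)
  have hNJ : NJ.map X.subtype ≤ X ⊓ M := by
    refine le_inf (map_subtype_le _) (fun g hg => hJM ?_)
    obtain ⟨g, hg', rfl⟩ := hg
    rw [← hJ]
    refine mem_normalizer_fintype fun u hu => ?_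
    obtain ⟨u, hu', rfl⟩ := hu
    exact ⟨g * u * g⁻¹, (mem_normalizer_iff.1 hg' u).1 hu', by simp⟩
  have hNJnil : Group.IsNilpotent NJ := by
    haveI := h.primes_nilpotent (S := NJ.map X.subtype) fun q hq hd =>
      hXM q hq (hd.trans (card_dvd_of_le hNJ))
    exact Group.nilpotent_of_mulEquiv (NJ.equivMapOfInjective _ X.subtype_injective).symm
  haveI := hNJnil
  obtain ⟨P', N, hN, hcompl⟩ := (Cfsg.Agent.S0117.result (h.part_ne_two hrA) P).2
    Cfsg.Lib.Thompson.hasNormalPComplement_of_isNilpotent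
  -- the normal complement has no prime of `B`
  have hNA : Primes A (N.map X.subtype) := by
    intro q hq hd
    haveI := Fact.mk hq
    refine (h.dvd_or hq (hd.trans (card_subgroup_dvd_card _))).resolve_right fun hqB => ?_
    obtain ⟨z, hz, hzo, hzR⟩ := exists_central h.nilA r hrA
    have hz1 : z ≠ 1 := fun hh => hr.ne_one (by rw [← hzo, hh, orderOf_one])
    have hzn : zpowers z ≤ normalizer ((N.map X.subtype : Subgroup G) : Set G) := by
      refine zpowers_le.2 (mem_normalizer_fintype ?_)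
      rintro _ ⟨u, hu, rfl⟩
      exact ⟨⟨z, hRX hzR⟩ * u * ⟨z, hRX hzR⟩⁻¹, hN.conj_mem u hu _, by simp⟩
    have hcop : (Nat.card (zpowers z)).Coprime (Nat.card (N.map X.subtype)) := by
      rw [Nat.card_zpowers, hzo, Cfsg.Lib.Core.card_map_subtype, hr.coprime_iff_not_dvd]
      intro hdN
      rw [← hcompl.index_eq_card] at hdN
      exact P'.not_dvd_index hdN
    obtain ⟨Q, hQ⟩ := Cfsg.Lib.Coprime.exists_invariant_sylow hzn hcop
      (Or.inl (Cfsg.Lib.Core.isSolvable_of_isMulCommutative _)) q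
    refine h.not_normalize hz hz1 (S := (Q : Subgroup _).map (N.map X.subtype).subtype)
      (fun t ht htd => ?_) (fun hh => Q.ne_bot_of_dvd_card hd
        ((map_eq_bot_iff_of_injective _ (N.map X.subtype).subtype_injective).1 hh))
      (hQ (mem_zpowers z))
    obtain ⟨k, hk⟩ := IsPGroup.iff_card.1 Q.isPGroup'
    rw [Cfsg.Lib.Core.card_map_subtype, hk] at htd
    rwa [(Nat.prime_dvd_prime_iff_eq ht hq).1 (ht.dvd_of_dvd_pow htd)]
  have hXA : Primes A X := fun q hq hd => by
    rw [← hcompl.card_mul_card] at hd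
    rcases hq.dvd_mul.1 hd with h' | h'
    · exact hNA q hq (by rwa [Cfsg.Lib.Core.card_map_subtype])
    · obtain ⟨k, hk⟩ := IsPGroup.iff_card.1 P'.isPGroup'
      rw [hk] at h'
      rwa [(Nat.prime_dvd_prime_iff_eq hq hr).1 (hq.dvd_of_dvd_pow h')]
  have hXn := h.primes_nilpotent hXA
  have hPn : (P : Subgroup X).Normal :=
    (Group.isNilpotent_of_finite_tfae.out 0 3 rfl rfl).mp hXn r inferInstance P
  refine le_trans ?_ (h.over_le (h.normalizer_ne_top (part_ne_bot r hrA)
    (h.primes_ne_top fun q hq hd => hd.trans (card_dvd_of_le (part_le A r))))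
    (le_normalizer_part h.nilA r))
  exact (normal_subgroupOf_iff_le_normalizer hRX).1 hPn

end Cfsg.Lib.Solv.KW
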